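/-
Similarity groups of Hermitian forms are maximal in `SL_3`.
-/
import Cfsg.Agent.Lib.MaxSub.FormMaximalSLUnitary

set_option autoImplicit false
set_option maxHeartbeats 800000
set_option linter.unusedSectionVars false

namespace CfsgLib.MaxSub.SLThree

open Matrix Module Cfsg Cfsg.Geo
open CfsgLib.SLCentre CfsgLib.PSLn

variable {F : Type*} [Field F] [Finite F] {σ : F ≃+* F}

local notation "V" => Fin 3 → F
local notation "SL" => Matrix.SpecialLinearGroup (Fin 3) F
local notation "Mn" => Matrix (Fin 3) (Fin 3) F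

/-- A subspace with one isotropic vector and the isotropic vectors not perpendicular to it is
everything. -/
theorem herm_span_three {f : V → V → F} (hf : IsUnitaryForm σ f) {S : Submodule F V}
    {e : V} (he0 : e ≠ 0) (he : f e e = 0) (heS : e ∈ S)
    (h : ∀ y, f y y = 0 → f y e ≠ 0 → y ∈ S) : S = ⊤ := by
  have key : ∀ x, f x e ≠ 0 → x ∈ S := fun x hx => by
    obtain ⟨k, hk⟩ := exists_trace_eq hf.ne_refl hf.involutive (c := -(f x x))
      (by rw [map_neg, ← hf.herm])
    have hex : f e x ≠ 0 := fun h0 => hx (by rw [hf.herm, h0, map_zero])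
    have hy : f (x + (k / f e x) • e) (x + (k / f e x) • e) = 0 := by
      rw [hf.add_left, Herm.add_right hf, Herm.add_right hf, Herm.smul_right hf, hf.smul_left,
        hf.smul_left, Herm.smul_right hf, he, map_div₀, ← hf.herm x e]
      field_simp
      linear_combination (f e x * f x e) * hk
    have := h _ hy (by rw [hf.add_left, hf.smul_left, he, mul_zero, add_zero]; exact hx)
    have h2 := S.sub_mem this (S.smul_mem (k / f e x) heS)
    rwa [add_sub_cancel_right] at h2
  obtain ⟨⟨z, hz⟩, -⟩ := hf.nondegenerate e he0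
  refine eq_top_iff.2 fun x _ => ?_
  by_cases hx : f x e = 0
  · have := S.sub_mem (key (x + z) (by rw [hf.add_left, hx, zero_add]; exact hz)) (key z hz)
    rwa [add_sub_cancel_right] at this
  · exact key x hx


/-- Two perpendicular isotropic vectors are dependent. -/
theorem not_li_iso {f : V → V → F} (hf : IsUnitaryForm σ f) {a b : V} (ha : f a a = 0)
    (hb : f b b = 0) (hab : f a b = 0) : ¬ LinearIndependent F ![a, b] := by
  intro hli
  have h1 := Herm.finrank_ker_values hf hli
  set S := LinearMap.ker (LinearMap.pi fun i => Herm.lin hf (![a, b] i))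
  have haS : a ∈ S := by
    ext i; fin_cases i
    · exact ha
    · exact hab
  have hbS : b ∈ S := by
    ext i; fin_cases i
    · show f b a = 0
      rw [hf.herm, hab, map_zero]
    · exact hb
  have hle : Submodule.span F (Set.range ![a, b]) ≤ S := by
    rw [Submodule.span_le]
    rintro _ ⟨i, rfl⟩
    fin_cases i <;> assumption
  have h2 := Submodule.finrank_mono hle
  rw [finrank_span_eq_card hli, Fintype.card_fin] at h2
  omega

/-- A non-isotropic vector is the first of three orthogonal ones, which give coordinates. -/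
theorem exists_orth {f : V → V → F} (hf : IsUnitaryForm σ f) {c : V} (hc : f c c ≠ 0) :
    ∃ p s : V, f p p ≠ 0 ∧ f s s ≠ 0 ∧ f p c = 0 ∧ f s c = 0 ∧ f s p = 0 ∧
      ∀ x : V, x = (f x c / f c c) • c + (f x p / f p p) • p + (f x s / f s s) • s := by
  have hc0 : c ≠ 0 := fun h => hc (by rw [h, Herm.zero_left hf])
  have hli1 : LinearIndependent F ![c] := linearIndependent_unique_iff.2 (by simpa using hc0)
  obtain ⟨p, hpc, hp⟩ : ∃ p, f p c = 0 ∧ f p p ≠ 0 := by
    by_contra hn
    push Not at hn
    have h1 := Herm.finrank_ker_values hf hli1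
    set S := LinearMap.ker (LinearMap.pi fun i => Herm.lin hf (![c] i)) with hS
    have hS0 : ∀ x ∈ S, f x c = 0 := fun x hx => congrFun hx 0
    let b := Module.finBasisOfFinrankEq F S (show finrank F S = 2 by omega)
    have hb : LinearIndependent F ![((b 0 : S) : V), ((b 1 : S) : V)] := by
      refine LinearIndependent.pair_iff.2 fun s t h => ?_
      have h' := Fintype.linearIndependent_iff.1 b.linearIndependent ![s, t]
        (Subtype.ext (by rw [Fin.sum_univ_two]; exact h))
      exact ⟨h' 0, h' 1⟩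
    set x : V := ((b 0 : S) : V) with hx
    set y : V := ((b 1 : S) : V) with hy
    have hxS : x ∈ S := (b 0).2
    have hyS : y ∈ S := (b 1).2
    have hxx := hn x (hS0 x hxS)
    have hyy := hn y (hS0 y hyS)
    refine not_li_iso hf hxx hyy ?_ hb
    by_contra hxy
    have h0 : ∀ a : F, σ a * f x y + a * σ (f x y) = 0 := fun a => by
      have := hn (x + a • y) (hS0 _ (S.add_mem hxS (S.smul_mem a hyS)))
      rw [hf.add_left, Herm.add_right hf, Herm.add_right hf, hxx, Herm.smul_right hf, hf.smul_left,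
        hf.smul_left, Herm.smul_right hf, hyy, hf.herm y x] at this
      linear_combination this
    refine hf.ne_refl (RingEquiv.ext fun a => ?_)
    have h2 := h0 1
    have h3 := h0 a
    rw [map_one] at h2
    refine mul_right_cancel₀ hxy ?_
    show σ a * f x y = a * f x y
    linear_combination h3 - a * h2
  have hcp : f c p = 0 := by rw [hf.herm, hpc, map_zero]
  have hli2 : LinearIndependent F ![c, p] := LinearIndependent.pair_iff.2 fun a b h => by
    have h1 := congrArg (fun z => f z c) h
    have h2 := congrArg (fun z => f z p) h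
    simp only [hf.add_left, hf.smul_left, hpc, hcp, mul_zero, add_zero, zero_add,
      Herm.zero_left hf] at h1 h2
    exact ⟨(mul_eq_zero.1 h1).resolve_right hc, (mul_eq_zero.1 h2).resolve_right hp⟩
  obtain ⟨s, hs0, hsc, hsp⟩ : ∃ s, s ≠ 0 ∧ f s c = 0 ∧ f s p = 0 := by
    have h1 := Herm.finrank_ker_values hf hli2
    set S := LinearMap.ker (LinearMap.pi fun i => Herm.lin hf (![c, p] i)) with hS
    obtain ⟨s, hsS, hs0⟩ := Submodule.exists_mem_ne_zero_of_ne_bot (p := S) (fun h => by
      rw [h, finrank_bot] at h1; omega)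
    exact ⟨s, hs0, congrFun hsS 0, congrFun hsS 1⟩
  have hcs : f c s = 0 := by rw [hf.herm, hsc, map_zero]
  have hps : f p s = 0 := by rw [hf.herm, hsp, map_zero]
  have hli3 : LinearIndependent F ![c, p, s] := by
    rw [Fintype.linearIndependent_iff]
    intro g hg
    simp only [Fin.sum_univ_three, Matrix.cons_val_zero, Matrix.cons_val_one,
      Matrix.cons_val_two, Matrix.head_cons, Matrix.tail_cons] at hg
    have h1 := congrArg (fun z => f z c) hg
    have h2 := congrArg (fun z => f z p) hg
    simp only [hf.add_left, hf.smul_left, hpc, hsc, hcp, hsp, mul_zero, add_zero, zero_add,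
      Herm.zero_left hf] at h1 h2
    have g0 := (mul_eq_zero.1 h1).resolve_right hc
    have g1 := (mul_eq_zero.1 h2).resolve_right hp
    rw [g0, g1, zero_smul, zero_smul, zero_add, zero_add, smul_eq_zero] at hg
    intro i; fin_cases i
    · exact g0
    · exact g1
    · exact hg.resolve_right hs0
  have hker : ∀ y, f y c = 0 → f y p = 0 → f y s = 0 → y = 0 := fun y h1 h2 h3 => by
    have h := Herm.finrank_ker_values hf hli3
    have hy : y ∈ LinearMap.ker (LinearMap.pi fun i => Herm.lin hf (![c, p, s] i)) := by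
      ext i; fin_cases i <;> assumption
    rwa [Submodule.finrank_eq_zero.1 (show finrank F (LinearMap.ker
      (LinearMap.pi fun i => Herm.lin hf (![c, p, s] i))) = 0 by omega), Submodule.mem_bot] at hy
  have hs : f s s ≠ 0 := fun h => hs0 (hker s hsc hsp h)
  refine ⟨p, s, hp, hs, hpc, hsc, hsp, fun x => sub_eq_zero.1 (hker _ ?_ ?_ ?_)⟩ <;>
    simp only [sub_eq_add_neg, hf.add_left, ← neg_one_smul F (_ + _ : V), hf.smul_left, hpc, hsc,
      hcp, hsp, hcs, hps, mul_zero, add_zero, zero_add] <;> field_simp <;> ring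

theorem HasTv_subLeft {H : Subgroup SL} {c c' φ : V} (h : HasTv H c φ) (h' : HasTv H c' φ) :
    HasTv H (c - c') φ := by
  obtain ⟨e, m⟩ := h
  obtain ⟨e', m'⟩ := h'
  have e'' : φ ⬝ᵥ (c - c') = 0 := by rw [dotProduct_sub, e, e', sub_zero]
  refine ⟨e'', ?_⟩
  have key : tv (c - c') φ e'' * tv c' φ e' = tv c φ e := by
    apply Subtype.ext
    show (tv (c - c') φ e'').1 * (tv c' φ e').1 = (tv c φ e).1
    simp only [coe_tv, Matrix.mul_add, Matrix.add_mul, Matrix.mul_one,
      Matrix.one_mul, vecMulVec_mul_vecMulVec, e', zero_smul, vecMulVec_zero, add_zero,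
      sub_vecMulVec, Matrix.sub_mul, sub_zero]
    abel
  have := mul_mem m (inv_mem m')
  rwa [← key, mul_inv_cancel_right] at this


/-- The similarities of a Hermitian form are maximal in `SL_3`. -/
theorem sl_unitary_maximal_three {f : V → V → F} (hf : IsUnitaryForm σ f) :
    IsMaximalIn (specialLinear (Fin 3) F) (similarityGroup f ⊓ specialLinear (Fin 3) F) := by
  refine ⟨lt_of_le_of_ne inf_le_right fun e =>
    sl_not_le_similarity le_rfl hf.add_left hf.smul_left hf.nondegenerate (e ▸ inf_le_left),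
    fun K hK hKS => ?_⟩
  by_cases hle : K ≤ similarityGroup f
  · exact Or.inl (le_antisymm (le_inf hle hKS) hK)
  obtain ⟨g, hg, hgf⟩ := Set.not_subset.1 hle
  refine Or.inr (le_antisymm hKS (specialLinear_le_of_top ?_))
  set K' : Subgroup SL := K.comap Matrix.SpecialLinearGroup.toGL with hK'
  have har := Herm.add_right hf
  have hsr := Herm.smul_right hf
  have hherm := hf.herm
  let β : V →+ V := AddMonoidHom.mk' (rowVec f) fun a b => funext fun i => har _ a b
  have hβ : ∀ v x : V, β v ⬝ᵥ x = f x v := fun v x => rowVec_dot hf.add_left hf.smul_left v x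
  have hβs : ∀ (c : F) (v : V), β (c • v) = σ c • β v := fun c v => funext fun i => hsr c _ v
  have hβi : Function.Injective β := by
    refine (injective_iff_map_eq_zero β).2 fun v hv => ?_
    by_contra h0
    obtain ⟨⟨x, hx⟩, -⟩ := hf.nondegenerate v h0
    exact hx (by rw [← hβ, hv, zero_dotProduct])
  have hβb : Function.Surjective β := Finite.injective_iff_surjective.1 hβi
  obtain ⟨c0, hc0, hc0s⟩ : ∃ c : F, c ≠ 0 ∧ c + σ c = 0 := by
    obtain ⟨a, ha⟩ : ∃ a, σ a ≠ a := by
      by_contra hc
      push Not at hc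
      exact hf.ne_refl (RingEquiv.ext hc)
    exact ⟨a - σ a, sub_ne_zero.2 ha.symm, by rw [map_sub, hf.involutive]; ring⟩
  obtain ⟨r, hr⟩ := exists_trace_eq hf.ne_refl hf.involutive (c := (1 : F)) (map_one _)
  have hT : ∀ (w : V) (c : F), f w w = 0 → c + σ c = 0 → HasTv K' w (c • β w) := fun w c hw hc => by
    have e : (c • β w) ⬝ᵥ w = 0 := by rw [smul_dotProduct, hβ, hw, smul_zero]
    refine ⟨e, hK ⟨⟨1, ?_⟩, Units.ext (tv w _ e).2⟩⟩
    intro a b
    show f ((tv w (c • β w) e).1 *ᵥ a) ((tv w (c • β w) e).1 *ᵥ b) = ((1 : Fˣ) : F) * f a b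
    simp only [tv_mulVec, smul_dotProduct, hβ, smul_eq_mul, hf.add_left, har, hf.smul_left, hsr, hw,
      Units.val_one, map_mul, ← hherm w b]
    linear_combination (f a w * f w b) * hc
  obtain ⟨gs, hgs, hgse⟩ := exists_sl_of hKS hg
  have hginj := Matrix.mulVec_injective_iff_isUnit.2 g.isUnit
  have hgi : ∀ x : V, (g : Mn) *ᵥ (((g⁻¹ : GL (Fin 3) F) : Mn) *ᵥ x) = x := fun x => by
    rw [Matrix.mulVec_mulVec, Units.mul_inv, Matrix.one_mulVec]
  -- a transvection of `K` with independent centre and axis vector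
  obtain ⟨v, u, hv, hvu, hu⟩ : ∃ v u : V, HasTv K' v (β u) ∧ f v u = 0 ∧
      LinearIndependent F ![v, u] := by
    choose A hA using fun v => hβb (β ((g : Mn) *ᵥ v) ᵥ* (g : Mn))
    have hAf : ∀ v x, f x (A v) = f ((g : Mn) *ᵥ x) ((g : Mn) *ᵥ v) := fun v x => by
      rw [← hβ (A v) x, hA, ← dotProduct_mulVec, hβ]
    let A' : V →ₗ[F] V :=
      { toFun := A
        map_add' := fun a b => hβi (by
          rw [map_add, hA, hA, hA, Matrix.mulVec_add, map_add, Matrix.add_vecMul])
        map_smul' := fun c a => hβi (by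
          rw [RingHom.id_apply, hβs, hA, hA, Matrix.mulVec_smul, hβs, Matrix.smul_vecMul]) }
    let T : V →ₗ[F] V := Matrix.mulVecLin (g : Mn) ∘ₗ A' ∘ₗ Matrix.mulVecLin ((g⁻¹ : GL (Fin 3) F) : Mn)
    by_contra hc
    push Not at hc
    have heig : ∀ y, y ≠ 0 → f y y = 0 → ∃ l : F, T y = l • y := fun y hy hyy => by
      set v := ((g⁻¹ : GL (Fin 3) F) : Mn) *ᵥ y with hv'
      have h1 := (hT y c0 hyy hc0s).conj' hgs (c' := v) (by rw [hgse, hv', hgi])
      rw [hgse, Matrix.smul_vecMul, show β y = β ((g : Mn) *ᵥ v) by rw [hv', hgi], ← hA,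
        show c0 • β (A v) = β (σ c0 • A v) by rw [hβs, hf.involutive]] at h1
      have h2 : f v (σ c0 • A v) = 0 := by rw [hsr, hAf, hv', hgi, hyy, mul_zero]
      have h3 := hc v _ h1 h2
      rw [LinearIndependent.pair_iff] at h3
      push Not at h3
      obtain ⟨s, t, hst, hne⟩ := h3
      have hv0 : v ≠ 0 := fun h => hy (by rw [← hgi y, ← hv', h, Matrix.mulVec_zero])
      have ht : t * σ c0 ≠ 0 := fun h => by
        rw [mul_eq_zero, map_eq_zero] at h
        have ht0 := h.resolve_right hc0
        rw [ht0, zero_smul, add_zero, smul_eq_zero] at hst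
        exact hne (hst.resolve_right hv0) ht0
      refine ⟨-(s / (t * σ c0)), ?_⟩
      show (g : Mn) *ᵥ A v = _
      have : A v = -(s / (t * σ c0)) • v := by
        rw [smul_smul] at hst
        rw [neg_smul, eq_neg_iff_add_eq_zero, add_comm]
        refine smul_right_injective V ht ?_
        simp only [smul_add, smul_smul, smul_zero, mul_div_cancel₀ _ ht]
        exact hst
      rw [this, Matrix.mulVec_smul, hv', hgi]
    obtain ⟨e, he, he1⟩ := Herm.exists_iso_values_of hf (k := 1)
      (u := ![(Pi.single 0 1 : V)])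
      (linearIndependent_unique_iff.2 fun h => by simpa using congrFun h 0) (Or.inl (by omega)) ![1]
    have he0 : e ≠ 0 := fun h => by
      have := he1 0
      rw [h, Herm.zero_left hf] at this
      exact zero_ne_one (this.trans (by simp))
    obtain ⟨l, hl⟩ := heig e he0 he
    have hall : LinearMap.ker (T - l • LinearMap.id) = ⊤ := by
      refine herm_span_three hf he0 he (by simp [hl]) fun y hy hye => ?_
      have hey : f e y ≠ 0 := fun h0 => hye (by rw [hherm, h0, map_zero])
      have hind : ∀ a b : F, a • y + b • e = 0 → a = 0 ∧ b = 0 := fun a b h => by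
        have := congrArg (fun z => f z e) h
        simp only [hf.add_left, hf.smul_left, he, mul_zero, add_zero, Herm.zero_left hf] at this
        have ha := (mul_eq_zero.1 this).resolve_right hye
        rw [ha, zero_smul, zero_add, smul_eq_zero] at h
        exact ⟨ha, h.resolve_right he0⟩
      set b := c0 / f e y with hb
      have hz : f (y + b • e) (y + b • e) = 0 := by
        rw [hf.add_left, har, har, hsr, hf.smul_left, hf.smul_left, hsr, he, hy, hb, map_div₀,
          ← hherm y e]
        field_simp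
        linear_combination (f e y * f y e) * hc0s
      have hy0 : y ≠ 0 := fun h => hye (by rw [h, Herm.zero_left hf])
      have hz0 : y + b • e ≠ 0 := fun h => by
        simpa using (hind 1 b (by rwa [one_smul])).1
      obtain ⟨l1, h1⟩ := heig y hy0 hy
      obtain ⟨l2, h2⟩ := heig _ hz0 hz
      rw [map_add, map_smul, h1, hl] at h2
      obtain ⟨h3, h4⟩ := hind (l1 - l2) (b * (l - l2)) (by
        rw [sub_smul, mul_sub, sub_smul, mul_comm b l2, mul_smul, mul_smul]
        linear_combination (norm := module) h2)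
      have hb0 : b ≠ 0 := div_ne_zero hc0 hey
      simp [h1, show l1 = l by linear_combination h3 - (mul_eq_zero.1 h4).resolve_left hb0]
    have hAl : ∀ v, A v = l • v := fun v => hginj (by
      have := LinearMap.mem_ker.1 (hall ▸ Submodule.mem_top :
        (g : Mn) *ᵥ v ∈ LinearMap.ker (T - l • LinearMap.id))
      simp only [LinearMap.sub_apply, sub_eq_zero] at this
      change (g : Mn) *ᵥ A (((g⁻¹ : GL (Fin 3) F) : Mn) *ᵥ ((g : Mn) *ᵥ v)) = l • ((g : Mn) *ᵥ v) at this
      rw [Matrix.mulVec_mulVec, Units.inv_mul, Matrix.one_mulVec] at this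
      rw [Matrix.mulVec_smul]
      exact this)
    have hl0 : σ l ≠ 0 := fun h0 => by
      obtain ⟨-, z, hz⟩ := hf.nondegenerate _ he0
      refine hz ?_
      rw [← hgi e, ← hgi z, ← hAf, hAl, hsr, h0, zero_mul]
    exact hgf ⟨Units.mk0 _ hl0, fun x y => by rw [← hAf, hAl, hsr]; rfl⟩
  have hherm' : ∀ a b : V, f a b = 0 → f b a = 0 := fun a b h => by rw [hherm, h, map_zero]
  have hisom : ∀ h : SL, (∀ x y, f (h.1 *ᵥ x) (h.1 *ᵥ y) = f x y) → h ∈ K' := fun h hh =>
    hK ⟨⟨1, fun a b => by rw [Units.val_one, one_mul]; exact hh a b⟩, Units.ext h.2⟩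
  have hmove : ∀ h : SL, (∀ x y, f (h.1 *ᵥ x) (h.1 *ᵥ y) = f x y) → ∀ {x y : V} {a : F},
      HasTv K' x (a • β y) → HasTv K' (h.1 *ᵥ x) (a • β (h.1 *ᵥ y)) := fun h hh x y a hx => by
    refine HasTv.conj (hisom h hh) ?_
    have : β (h.1 *ᵥ y) ᵥ* h.1 = β y := dotProduct_eq _ _ fun z => by
      rw [← dotProduct_mulVec, hβ, hβ, hh]
    rwa [Matrix.smul_vecMul, this]
  have hiso2 : ∀ c p : V, f c c ≠ 0 → f p p ≠ 0 → f p c = 0 →
      ∃ k k' : F, k ≠ 0 ∧ k' ≠ k ∧ f (c + k • p) (c + k • p) = 0 ∧
        f (c + k' • p) (c + k' • p) = 0 := fun c p hc hp hpc => by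
    have hσ : ∀ x : V, σ (f x x) = f x x := fun x => (hherm x x).symm
    obtain ⟨k, hk⟩ := Herm.exists_norm hf.ne_refl hf.involutive (c := -f c c / f p p)
      (by rw [map_div₀, map_neg, hσ, hσ])
    have hk0 : k ≠ 0 := fun h => by
      rw [h, zero_mul, eq_comm, div_eq_zero_iff, neg_eq_zero] at hk
      exact hk.elim hc hp
    obtain ⟨a, ha⟩ : ∃ a, σ a ≠ a := by
      by_contra hn
      push Not at hn
      exact hf.ne_refl (RingEquiv.ext hn)
    have ha0 : a ≠ 0 := fun h => ha (by rw [h, map_zero])
    have hval : ∀ k : F, k * σ k = -f c c / f p p → f (c + k • p) (c + k • p) = 0 := fun k hk => by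
      rw [hf.add_left, har, har, hsr, hf.smul_left, hf.smul_left, hsr, hpc, hherm' _ _ hpc]
      rw [eq_div_iff hp] at hk
      linear_combination hk
    refine ⟨k, k * (σ a / a), hk0, fun h => ha ?_, hval k hk, hval _ ?_⟩
    · have := mul_left_cancel₀ hk0 (h.trans (mul_one k).symm)
      rwa [div_eq_one_iff_eq ha0] at this
    · rw [map_mul, map_div₀, hf.involutive, ← hk]
      have : σ a ≠ 0 := fun h => ha0 ((map_eq_zero σ).1 h)
      field_simp
  -- all scalars at one isotropic vector
  obtain ⟨w, hw0, hw, hwa⟩ : ∃ w, w ≠ 0 ∧ f w w = 0 ∧ ∀ a : F, HasTv K' w (a • β w) := by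
    have hgen : ∀ z y : V, f z z ≠ 0 → f y y = 0 → f y z = 0 → ∀ t : F, ∃ h : SL,
        (∀ a b, f (h.1 *ᵥ a) (h.1 *ᵥ b) = f a b) ∧ h.1 *ᵥ z = z + t • y ∧ h.1 *ᵥ y = y := by
      intro z y hz hy hyz t
      set t' := t / f z z with ht'
      obtain ⟨b, hb⟩ := exists_trace_eq hf.ne_refl hf.involutive
        (c := -(σ t' * t' * f z z)) (by
          rw [map_neg, map_mul, map_mul, hf.involutive, ← hherm z z]; ring)
      have e1 : (-σ t' • β y) ⬝ᵥ z = 0 := by
        rw [smul_dotProduct, hβ, hherm' _ _ hyz, smul_zero]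
      have e2 : (t' • β z + b • β y) ⬝ᵥ y = 0 := by
        rw [add_dotProduct, smul_dotProduct, smul_dotProduct, hβ, hβ, hyz, hy, smul_zero, smul_zero,
          add_zero]
      have hact : ∀ x, (tv z (-σ t' • β y) e1 * tv y (t' • β z + b • β y) e2).1 *ᵥ x =
          x + (-σ t' * f x y) • z + (t' * f x z + b * f x y) • y := fun x => by
        show ((tv z (-σ t' • β y) e1).1 * (tv y (t' • β z + b • β y) e2).1) *ᵥ x = _
        rw [← Matrix.mulVec_mulVec, tv_mulVec, tv_mulVec]
        simp only [add_dotProduct, smul_dotProduct, hβ, smul_eq_mul, hf.add_left, hf.smul_left,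
          hy, mul_zero, add_zero, zero_mul]
        abel
      refine ⟨tv z (-σ t' • β y) e1 * tv y (t' • β z + b • β y) e2, fun x x' => ?_, ?_, ?_⟩
      · rw [hact, hact]
        simp only [hf.add_left, har, hf.smul_left, hsr, hy, hyz, hherm' _ _ hyz, map_add, map_mul,
          map_neg, hf.involutive, ← hherm y x', ← hherm z x', mul_zero, add_zero, zero_add]
        linear_combination (f x y * f y x') * hb
      · rw [hact, hherm' _ _ hyz]
        simp [ht', div_mul_cancel₀ _ hz]
      · rw [hact, hy, hyz]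
        simp
    by_cases hvv : f v v = 0
    · have huu : f u u ≠ 0 := fun h => not_li_iso hf hvv h hvu hu
      refine ⟨v, hu.ne_zero 0, hvv, fun a => ?_⟩
      obtain ⟨h, hh, hhu, hhv⟩ := hgen u v huu hvv hvu (σ a)
      have := hmove h hh (x := v) (y := u) (a := (1 : F)) (by rwa [one_smul])
      rw [hhv, hhu, one_smul] at this
      have := this.sub hv
      rwa [← map_sub, add_sub_cancel_left, hβs, hf.involutive] at this
    · obtain ⟨p, s, hp, hs, hpv, hsv, hsp, hexp⟩ := exists_orth hf hvv
      obtain ⟨k, k', -, hkk, hk, hk'⟩ := hiso2 p s hp hs hsp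
      obtain ⟨w, hw, hwv, hwu⟩ : ∃ w, f w w = 0 ∧ f w v = 0 ∧ f w u ≠ 0 := by
        by_contra hn
        push Not at hn
        have h1 := hn _ hk (by rw [hf.add_left, hf.smul_left, hpv, hsv, mul_zero, add_zero])
        have h2 := hn _ hk' (by rw [hf.add_left, hf.smul_left, hpv, hsv, mul_zero, add_zero])
        rw [hf.add_left, hf.smul_left] at h1 h2
        have hsu : f s u = 0 := (mul_eq_zero.1 (show (k' - k) * f s u = 0 by
          linear_combination h2 - h1)).resolve_left (sub_ne_zero.2 hkk)
        have hpu : f p u = 0 := by linear_combination h1 - k * hsu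
        refine hu.ne_zero 1 ((hexp u).trans ?_)
        simp [hherm' _ _ hvu, hherm' _ _ hsu, hherm' _ _ hpu]
      refine ⟨w, fun h => hwu (by rw [h, Herm.zero_left hf]), hw, fun a => ?_⟩
      have hd : HasTv K' v ((f w u * c0) • β w) := by
        have := hv.comm (hT w c0 hw hc0s) (by rw [smul_dotProduct, hβ, hherm' _ _ hwv, smul_zero])
        rwa [hβ, smul_smul] at this
      set d := f w u * c0 with hd'
      have hd0 : d ≠ 0 := mul_ne_zero hwu hc0
      by_cases ha : a = 0
      · rw [ha, zero_smul]; exact HasTv.zero w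
      obtain ⟨h, hh, hhv, hhw⟩ := hgen v w hvv hw hwv (a / d)
      have := hmove h hh hd
      rw [hhv, hhw] at this
      have := HasTv_subLeft this hd
      rw [add_sub_cancel_left] at this
      have := this.scale (div_ne_zero ha hd0)
      rwa [smul_smul, div_mul_cancel₀ _ hd0] at this
  -- hence at all isotropic vectors
  have hall : ∀ y, f y y = 0 → ∀ a : F, HasTv K' y (a • β y) := by
    intro y hy a
    have hscale : ∀ (z : V) (l : F), (∀ a : F, HasTv K' z (a • β z)) → ∀ a : F,
        HasTv K' (l • z) (a • β (l • z)) := fun z l hz a => by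
      by_cases hl : l = 0
      · rw [hl, zero_smul, map_zero, smul_zero]; exact HasTv.zero _
      have h : HasTv K' (l⁻¹ • l • z) ((l * (a * σ l)) • β z) := by
        rw [smul_smul, inv_mul_cancel₀ hl, one_smul]; exact hz _
      have h' := h.scale (inv_ne_zero hl)
      rwa [smul_smul, ← mul_assoc, inv_mul_cancel₀ hl, one_mul, mul_smul, ← hβs] at h'
    by_cases hyw : f y w = 0
    · obtain ⟨l, rfl⟩ : ∃ l : F, y = l • w := by
        by_contra hn
        push Not at hn
        refine not_li_iso hf hw hy (hherm' _ _ hyw) ((LinearIndependent.pair_iff' hw0).2 fun l => ?_)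
        exact (hn l).symm
      exact hscale w l hwa a
    · set e := (f y w)⁻¹ • y with he'
      have he : f e e = 0 := by rw [he', hf.smul_left, hsr, hy, mul_zero, mul_zero]
      have hew : f e w = 1 := by rw [he', hf.smul_left, inv_mul_cancel₀ hyw]
      have hwe : f w e = 1 := by rw [hherm, hew, map_one]
      have hd : (-(1 + vecMulVec (e + w) (-β (e + w))) : Mn).det = 1 := by
        rw [Matrix.det_neg, vecMulVec_eq Unit, Matrix.det_one_add_replicateCol_mul_replicateRow,
          neg_dotProduct, hβ, hf.add_left, har, har, he, hw, hew, hwe, Fintype.card_fin]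
        ring
      let h : SL := ⟨_, hd⟩
      have hact : ∀ x, h.1 *ᵥ x = -x + f x (e + w) • (e + w) := fun x => by
        show (-(1 + vecMulVec (e + w) (-β (e + w))) : Mn) *ᵥ x = _
        rw [neg_mulVec, add_mulVec, one_mulVec, vecMulVec_mulVec, op_smul_eq_smul, neg_dotProduct,
          hβ, neg_smul]
        abel
      have hee : f (e + w) (e + w) = 2 := by
        rw [hf.add_left, har, har, he, hw, hew, hwe]; ring
      have hh : ∀ x y, f (h.1 *ᵥ x) (h.1 *ᵥ y) = f x y := fun x x' => by
        rw [hact, hact, ← neg_one_smul F x, ← neg_one_smul F x']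
        simp only [hf.add_left (_ • x), har _ (_ • x'), hf.smul_left, hsr, hee, map_neg, map_one,
          ← hherm (e + w) x']
        ring
      have hhw : h.1 *ᵥ w = e := by
        rw [hact, har, hw, hwe, add_zero, one_smul]; abel
      have hye : y = f y w • e := by
        rw [he', smul_smul, mul_inv_cancel₀ hyw, one_smul]
      rw [hye]
      exact hscale e _ (fun a => by have := hmove h hh (hwa a); rwa [hhw] at this) a
  -- hence everything with a non-isotropic centre
  have hfull : ∀ c, f c c ≠ 0 → c ∈ fullSubmodule K' := fun c hc => by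
    have hpair : ∀ p, f p p ≠ 0 → f p c = 0 → ∀ b : F, HasTv K' c (b • β p) := fun p hp hpc b => by
      obtain ⟨k, k', hk0, hkk, hk, hk'⟩ := hiso2 c p hc hp hpc
      obtain ⟨w, hw'⟩ : ∃ w, w = c + k • p := ⟨_, rfl⟩
      obtain ⟨e, he'⟩ : ∃ e, e = c + k' • p := ⟨_, rfl⟩
      rw [← hw'] at hk
      rw [← he'] at hk'
      have hk0' : k' ≠ 0 := fun h => hc (by
        rwa [he', h, zero_smul, add_zero] at hk')
      obtain ⟨d, hd⟩ : ∃ d, d = f e w := ⟨_, rfl⟩
      obtain ⟨a, ha⟩ : ∃ a, a = -(k / k') * d := ⟨_, rfl⟩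
      have hd0 : d ≠ 0 := fun h => by
        refine not_li_iso hf hk' hk (hd.symm.trans h) (LinearIndependent.pair_iff.2 fun s t hst => ?_)
        rw [he', hw'] at hst
        have h1 := congrArg (fun z => f z c) hst
        have h2 := congrArg (fun z => f z p) hst
        simp only [hf.add_left, hf.smul_left, hpc, hherm' _ _ hpc, mul_zero, add_zero, zero_add,
          Herm.zero_left hf, ← mul_assoc, ← add_mul, mul_eq_zero, or_false, hc, hp] at h1 h2
        have ht : t = 0 := (mul_eq_zero.1 (show t * (k - k') = 0 by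
          linear_combination h2 - k' * h1)).resolve_right (sub_ne_zero.2 hkk.symm)
        exact ⟨by linear_combination h1 - ht, ht⟩
      obtain ⟨e1, he1'⟩ : ∃ e1, e1 = d⁻¹ • e := ⟨_, rfl⟩
      have he1 : f e1 e1 = 0 := by rw [he1', hf.smul_left, hsr, hk', mul_zero, mul_zero]
      have he1w : f e1 w = 1 := by rw [he1', hf.smul_left, ← hd, inv_mul_cancel₀ hd0]
      have hwe1 : f w e1 = 1 := by rw [hherm, he1w, map_one]
      obtain ⟨ed, hm⟩ := hall e1 he1 a
      have hval : ∀ x, (tv e1 (a • β e1) ed).1 *ᵥ x = x + (a * f x e1) • e1 := fun x => by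
        rw [tv_mulVec, smul_dotProduct, hβ, smul_eq_mul]
      have hdual : β (w - σ a • e1) ᵥ* (tv e1 (a • β e1) ed).1 = β w := dotProduct_eq _ _ fun x => by
        rw [← dotProduct_mulVec, hβ, hβ, hval, sub_eq_add_neg, har, ← neg_smul, hsr, map_neg,
          hf.involutive, hf.add_left, hf.smul_left, hf.add_left, hf.smul_left, he1w, he1]
        ring
      have hcw : ∀ b : F, HasTv K' (w + a • e1) (b • β (w - σ a • e1)) := fun b => by
        have := HasTv.conj hm (φ := b • β (w - σ a • e1)) (c := w)
          (by rw [Matrix.smul_vecMul, hdual]; exact hall w hk b)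
        rwa [hval, hwe1, mul_one] at this
      have hcen : w + a • e1 = ((k' - k) / k') • c := by
        rw [he1', smul_smul, ha, mul_assoc, mul_inv_cancel₀ hd0, mul_one, hw', he', smul_add,
          smul_smul, neg_mul, div_mul_cancel₀ _ hk0', sub_div, div_self hk0']
        module
      obtain ⟨u', hu'⟩ : ∃ u', u' = w - σ a • e1 := ⟨_, rfl⟩
      rw [← hu'] at hcw
      have hu'c : f c u' = 0 := by
        have h0 : f (w + a • e1) u' = 0 := by
          rw [hu', sub_eq_add_neg, ← neg_smul, hf.add_left, har, har, hf.smul_left, hsr, hf.smul_left,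
            hsr, hwe1, he1w, he1, hk, map_neg, hf.involutive]
          ring
        rw [hcen, hf.smul_left] at h0
        exact (mul_eq_zero.1 h0).resolve_left (div_ne_zero (sub_ne_zero.2 hkk) hk0')
      obtain ⟨l, hl, hl0⟩ : ∃ l : F, u' = l • p ∧ l ≠ 0 := by
        have he : u' = (1 - σ a * d⁻¹) • c + (k - σ a * d⁻¹ * k') • p := by
          rw [hu', he1', hw', he']; module
        rw [he, har, hsr, hsr, hherm' _ _ hpc, mul_zero, add_zero, mul_eq_zero, map_eq_zero] at hu'c
        rw [hu'c.resolve_right hc, zero_smul, zero_add] at he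
        refine ⟨_, he, fun h => ?_⟩
        have h1 : σ a * d⁻¹ = 1 := (sub_eq_zero.1 (hu'c.resolve_right hc)).symm
        rw [h1, one_mul, sub_eq_zero] at h
        exact hkk h.symm
      have := hcw (b * ((k' - k) / k')⁻¹ * (σ l)⁻¹)
      rw [hcen, hl, hβs, smul_smul, mul_assoc _ _ (σ l),
        inv_mul_cancel₀ ((map_ne_zero σ).2 hl0), mul_one] at this
      have := this.scale (div_ne_zero (sub_ne_zero.2 hkk) hk0')
      rwa [smul_smul, mul_left_comm, mul_inv_cancel₀ (div_ne_zero (sub_ne_zero.2 hkk) hk0'),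
        mul_one] at this
    intro ψ hψ
    obtain ⟨x, rfl⟩ := hβb ψ
    rw [hβ] at hψ
    obtain ⟨p, s, hp, hs, hpc, hsc, -, hexp⟩ := exists_orth hf hc
    rw [hexp x, hherm' _ _ hψ, zero_div, zero_smul, zero_add, map_add, hβs, hβs]
    exact (hpair p hp hpc _).add (hpair s hs hsc _)
  obtain ⟨c, hc⟩ : ∃ c, f c c ≠ 0 := by
    by_contra hn
    push Not at hn
    exact not_li_iso hf (hn v) (hn u) hvu hu
  obtain ⟨p, s, hp, hs, -, -, -, hexp⟩ := exists_orth hf hc
  refine eq_top_of_full (by norm_num) (eq_top_iff.2 fun x _ => ?_)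
  rw [hexp x]
  exact Submodule.add_mem _ (Submodule.add_mem _ (Submodule.smul_mem _ _ (hfull c hc))
    (Submodule.smul_mem _ _ (hfull p hp))) (Submodule.smul_mem _ _ (hfull s hs))

end CfsgLib.MaxSub.SLThree
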