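/-
Eigen-centres at every point, each with one axis, give a polarity without absolute points.
-/
import Cfsg.Agent.Lib.MaxSub.SLThree.Tools

set_option autoImplicit false
set_option maxHeartbeats 800000
set_option linter.unusedSectionVars false

namespace CfsgLib.MaxSub.SLThree

open Matrix Module

variable {F : Type*} [Field F] [Fintype F]

local notation "SL" => Matrix.SpecialLinearGroup (Fin 3) F
local notation "Mn" => Matrix (Fin 3) (Fin 3) F
local notation "V" => Fin 3 → F

variable {M : Subgroup (Matrix.SpecialLinearGroup (Fin 3) F)}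

/-- No group has one eigen-axis at every point. -/
theorem no_polarity (hcen : ∀ v : V, v ≠ 0 → ∃ φ, Cen M v φ)
    (hU : ∀ c φ φ' : V, Cen M c φ → Cen M c φ' → ∀ x, φ ⬝ᵥ x = 0 ↔ φ' ⬝ᵥ x = 0) : False := by
  classical
  obtain ⟨p, hp⟩ := CharP.exists F
  obtain ⟨n, hpr, hn⟩ := FiniteField.card F p
  haveI := Fact.mk hpr
  set q := Fintype.card F with hq
  have hq2 : 1 < q := Fintype.one_lt_card
  choose φ hφ using hcen
  -- symmetry
  have hsym : ∀ c c' (hc : c ≠ 0) (hc' : c' ≠ 0), φ c hc ⬝ᵥ c' = 0 → φ c' hc' ⬝ᵥ c = 0 := by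
    intro c c' hc hc' h0
    by_contra hne
    obtain ⟨hd, g, hg, a, b, hab, hgc, hgx⟩ := hφ c hc
    have hC' := hφ c' hc'
    have ha0 : a ≠ 0 := fun h => by
      refine hc' ?_
      rw [← Matrix.one_mulVec c', ← val_inv_mul' g, ← Matrix.mulVec_mulVec, hgx c' h0, h, zero_smul,
        Matrix.mulVec_zero]
    have h2 := (hC'.conj hg).smul (inv_ne_zero ha0)
    rw [hgx c' h0, smul_smul, inv_mul_cancel₀ ha0, one_smul] at h2
    have hinv : ∀ y, φ c' hc' ⬝ᵥ y = 0 → φ c' hc' ⬝ᵥ (g.1 *ᵥ y) = 0 := fun y hy => by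
      rw [hU _ _ _ hC' h2, ← dotProduct_mulVec, Matrix.mulVec_mulVec, val_inv_mul',
        Matrix.one_mulVec]
      exact hy
    have hsub : ∀ y, φ c' hc' ⬝ᵥ y = 0 → φ c hc ⬝ᵥ y = 0 := fun y hy => by
      refine perp_of_eigen hd hab hgc hgx ?_
      have := hinv y hy
      rw [act_mod hd hgc hgx y, dotProduct_add, dotProduct_smul, dotProduct_smul, hy, smul_zero,
        zero_add, smul_eq_zero] at this
      rw [act_mod hd hgc hgx y, this.resolve_right hne, zero_smul, add_zero]
    -- equal kernels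
    refine hC'.1 ?_
    have hk := hsub (c - (φ c' hc' ⬝ᵥ c / φ c' hc' ⬝ᵥ c') • c') (by
      rw [dotProduct_sub, dotProduct_smul, smul_eq_mul, div_mul_cancel₀ _ hC'.1, sub_self])
    rw [dotProduct_sub, dotProduct_smul, h0, smul_zero, sub_zero] at hk
    exact absurd hk hd
  -- the incidence matrix
  let I := {v : V // v ≠ 0}
  let A : Matrix I I (ZMod p) := Matrix.of fun x y => if φ x.1 x.2 ⬝ᵥ y.1 = 0 then 1 else 0
  have hqp : ((q : ℕ) : ZMod p) = 0 := by
    rw [hn, Nat.cast_pow, ZMod.natCast_self, zero_pow n.pos.ne']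
  have hsquare : A * A = Matrix.of fun _ _ => (-1 : ZMod p) := by
    ext x y
    let P : V →ₗ[F] F × F := (dotProductEquiv F (Fin 3) (φ x.1 x.2)).prod (dotProductEquiv F (Fin 3) (φ y.1 y.2))
    have hk : 1 ≤ finrank F (LinearMap.ker P) := by
      have h1 := LinearMap.finrank_range_add_finrank_ker P
      have h2 := Submodule.finrank_le (LinearMap.range P)
      rw [Module.finrank_prod, Module.finrank_self] at h2
      rw [Module.finrank_fin_fun] at h1
      omega
    have hterm : ∀ z : I, A x z * A z y = if z.1 ∈ LinearMap.ker P then 1 else 0 := fun z => by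
      have hs : φ z.1 z.2 ⬝ᵥ y.1 = 0 ↔ φ y.1 y.2 ⬝ᵥ z.1 = 0 := ⟨hsym _ _ _ _, hsym _ _ _ _⟩
      have hm : z.1 ∈ LinearMap.ker P ↔ φ x.1 x.2 ⬝ᵥ z.1 = 0 ∧ φ y.1 y.2 ⬝ᵥ z.1 = 0 := by
        simp [P, Prod.ext_iff]
      simp only [A, Matrix.of_apply, hs, hm]
      split_ifs <;> simp_all
    rw [Matrix.mul_apply, Finset.sum_congr rfl (fun z _ => hterm z), Finset.sum_boole, Matrix.of_apply,
      ← Fintype.card_subtype,
      Fintype.card_congr (Equiv.subtypeSubtypeEquivSubtypeInter (fun v : V => v ≠ 0) (fun v => v ∈ LinearMap.ker P)),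
      show Fintype.card {v : V // v ≠ 0 ∧ v ∈ LinearMap.ker P} = q ^ finrank F (LinearMap.ker P) - 1 by
        rw [hq, ← (Module.card_eq_pow_finrank (K := F) : Fintype.card (LinearMap.ker P) = _),
          ← Fintype.card_subtype_eq (0 : LinearMap.ker P), ← Fintype.card_subtype_compl]
        exact Fintype.card_congr
          { toFun := fun v => ⟨⟨v.1, v.2.2⟩, fun h => v.2.1 (congrArg Subtype.val h)⟩
            invFun := fun v => ⟨v.1.1, fun h => v.2 (Subtype.ext h), v.1.2⟩
            left_inv := fun v => rfl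
            right_inv := fun v => rfl },
      Nat.cast_sub (Nat.one_le_pow _ _ (by omega)), Nat.cast_pow, hqp,
      zero_pow (by omega : finrank F (LinearMap.ker P) ≠ 0), Nat.cast_one, zero_sub]
  set J : Matrix I I (ZMod p) := Matrix.of fun _ _ => (1 : ZMod p) with hJ
  have hAJ : A * J = -J := by
    ext x y
    have := congrFun (congrFun hsquare x) x
    rw [Matrix.mul_apply, Matrix.of_apply] at this
    rw [Matrix.mul_apply, Matrix.neg_apply, hJ, Matrix.of_apply, ← this]
    refine Finset.sum_congr rfl fun z _ => ?_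
    have hs : φ z.1 z.2 ⬝ᵥ x.1 = 0 ↔ φ x.1 x.2 ⬝ᵥ z.1 = 0 := ⟨hsym _ _ _ _, hsym _ _ _ _⟩
    simp only [A, Matrix.of_apply, hs, mul_one]
    split_ifs <;> simp
  have hpow : ∀ k, A ^ (k + 2) = (-1 : ZMod p) ^ (k + 1) • J := by
    intro k
    induction k with
    | zero =>
      rw [pow_two, hsquare]
      ext x y
      simp [hJ]
    | succ k ih =>
      rw [show k + 1 + 2 = (k + 2) + 1 by ring, pow_succ', ih, Matrix.mul_smul, hAJ, smul_neg,
        pow_succ (-1 : ZMod p) (k + 1), mul_neg_one, neg_smul]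
  have hpk : p - 2 + 2 = p := Nat.sub_add_cancel hpr.two_le
  have h1 : Matrix.trace (A ^ p) = 0 := by
    rw [ZMod.trace_pow_card, show Matrix.trace A = 0 from Finset.sum_eq_zero fun x _ => by
      simp [A, (hφ x.1 x.2).1], zero_pow hpr.pos.ne']
  have h2 := hpow (p - 2)
  rw [hpk] at h2
  rw [h2, Matrix.trace_smul, smul_eq_mul, mul_eq_zero] at h1
  rcases h1 with h1 | h1
  · exact pow_ne_zero _ (neg_ne_zero.2 one_ne_zero) h1
  · rw [Matrix.trace, hJ] at h1
    simp only [Matrix.diag, Matrix.of_apply, Finset.sum_const, nsmul_one, Finset.card_univ] at h1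
    rw [show Fintype.card I = q ^ 3 - 1 by
      rw [Fintype.card_subtype_compl, Fintype.card_subtype_eq, Fintype.card_fun, Fintype.card_fin, hq],
      Nat.cast_sub (Nat.one_le_pow _ _ (by omega)), Nat.cast_pow, hqp] at h1
    simp at h1

end CfsgLib.MaxSub.SLThree
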