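/-
Similarity groups of ternary quadratic forms are maximal in `SL_3`, odd characteristic.
-/
import Cfsg.Agent.Lib.MaxSub.Monomial.Basic
import Cfsg.Agent.Lib.MaxSub.SubspaceMaximalOrthBasic
import Cfsg.Agent.Lib.MaxSub.SubspaceMaximalOrthGL
import Cfsg.Agent.Lib.MaxSub.SLThree.Tools

set_option autoImplicit false
set_option maxHeartbeats 800000
set_option linter.unusedSectionVars false

namespace CfsgLib.MaxSub.SLThree.Orth3

open Matrix Module Cfsg Cfsg.Geo CfsgLib.MaxSub.Monomial
open CfsgLib.SLCentre CfsgLib.PSLn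

variable {F : Type*} [Field F] [Fintype F] {K : Subgroup (Matrix.SpecialLinearGroup (Fin 3) F)}

local notation "SL" => Matrix.SpecialLinearGroup (Fin 3) F
local notation "Mn" => Matrix (Fin 3) (Fin 3) F
local notation "V" => Fin 3 → F

/-- The standard form. -/
def q0 (x : Fin 3 → F) : F := x 1 * x 1 - x 0 * x 2

/-- The polar form of the standard form. -/
def b0 (x y : Fin 3 → F) : F := 2 * x 1 * y 1 - x 0 * y 2 - x 2 * y 0

/-- All similarities of determinant one of the standard form are present. -/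
def HasSim (K : Subgroup (Matrix.SpecialLinearGroup (Fin 3) F)) : Prop :=
  ∀ g : Matrix.SpecialLinearGroup (Fin 3) F, (∃ l : F, l ≠ 0 ∧ ∀ x, q0 (g.1 *ᵥ x) = l * q0 x) → g ∈ K

/-- The similarity condition on a matrix. -/
def Sim (A : Matrix (Fin 3) (Fin 3) F) : Prop := ∃ l : F, l ≠ 0 ∧ ∀ x, q0 (A *ᵥ x) = l * q0 x

theorem in_of_sim (hS : HasSim K) {A : Mn} (hd : A.det = 1) (hA : Sim A) : In K A :=
  ⟨⟨A, hd⟩, hS _ hA, rfl⟩

theorem Sim.mul {A B : Mn} (hA : Sim A) (hB : Sim B) : Sim (A * B) := by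
  obtain ⟨l, hl, hA⟩ := hA
  obtain ⟨k, hk, hB⟩ := hB
  exact ⟨l * k, mul_ne_zero hl hk, fun x => by rw [← Matrix.mulVec_mulVec, hA, hB, mul_assoc]⟩

/-- The torus element. -/
def Tm (t : F) : Matrix (Fin 3) (Fin 3) F := Matrix.diagonal ![t, 1, t⁻¹]

/-- The unipotent element. -/
def Um (a : F) : Matrix (Fin 3) (Fin 3) F := !![1, 2 * a, a * a; 0, 1, a; 0, 0, 1]

/-- The Weyl element. -/
def Wm : Matrix (Fin 3) (Fin 3) F := !![0, 0, 1; 0, -1, 0; 1, 0, 0]

theorem mulVec_three (A : Mn) (x : V) (i : Fin 3) :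
    (A *ᵥ x) i = A i 0 * x 0 + A i 1 * x 1 + A i 2 * x 2 := by
  simp [Matrix.mulVec, dotProduct, Fin.sum_univ_three]

theorem mul_three (A B : Mn) (i j : Fin 3) :
    (A * B) i j = A i 0 * B 0 j + A i 1 * B 1 j + A i 2 * B 2 j := by
  rw [Matrix.mul_apply, Fin.sum_univ_three]

theorem fin_three : ∀ i : Fin 3, i = 0 ∨ i = 1 ∨ i = 2 := by decide

theorem fin_three' : ∀ i : Fin 3, i ≠ 0 → i = 1 ∨ i = 2 := by decide

theorem b0_self (x : V) : b0 x x = 2 * q0 x := by simp [b0, q0]; ring

theorem b0_comm (x y : V) : b0 x y = b0 y x := by simp [b0]; ring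

theorem b0_sub_smul (x y z : V) (c : F) : b0 (x - c • y) z = b0 x z - c * b0 y z := by
  simp [b0]; ring

theorem q0_sub_smul (x y : V) (c : F) : q0 (x - c • y) = q0 x - c * b0 x y + c * c * q0 y := by
  simp [b0, q0]; ring

theorem q0_neg (x : V) : q0 (-x) = q0 x := by simp [q0]

theorem b0_neg (x y : V) : b0 (-x) y = -b0 x y := by simp [b0]; ring

theorem in_Tm (hS : HasSim K) {t : F} (ht : t ≠ 0) : In K (Tm t) := by
  refine in_of_sim hS ?_ ⟨1, one_ne_zero, fun x => ?_⟩
  · rw [Tm, Matrix.det_diagonal, Fin.prod_univ_three]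
    show t * 1 * t⁻¹ = 1
    field_simp
  · simp [q0, Tm, Matrix.mulVec_diagonal]
    field_simp

theorem in_Um (hS : HasSim K) (a : F) : In K (Um a) := by
  refine in_of_sim hS ?_ ⟨1, one_ne_zero, fun x => ?_⟩
  · simp [Um, Matrix.det_fin_three]
  · simp [q0, mulVec_three, Um]
    ring

theorem in_Wm (hS : HasSim K) : In K (Wm : Mn) := by
  refine in_of_sim hS ?_ ⟨1, one_ne_zero, fun x => ?_⟩
  · simp [Wm, Matrix.det_fin_three]
  · simp [q0, mulVec_three, Wm]
    ring

theorem Um_add (a b : F) : Um a * Um b = Um (a + b) := by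
  ext i j
  fin_cases i <;> fin_cases j <;> (simp only [mul_three]; simp [Um, ]) <;> ring

theorem root_mul {i j : Fin 3} (hij : i ≠ j) (a b : F) :
    (1 + Matrix.single i j a : Mn) * (1 + Matrix.single i j b) = 1 + Matrix.single i j (a + b) := by
  simp only [add_mul, mul_add, one_mul, mul_one, Matrix.single_mul_single_of_ne a i j i hij.symm b,
    add_zero, Matrix.single_add]
  abel

/-- One root element at the tangent flag gives everything. -/
theorem top_of_root02 (h2 : (2 : F) ≠ 0) (hS : HasSim K) {ν : F} (hν : ν ≠ 0) (h : Root K 0 2 ν) :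
    K = ⊤ := by
  have hsq : ∀ t : F, t ≠ 0 → Root K 0 2 (t * t * ν) := fun t ht => by
    show In K _
    convert ((in_Tm hS ht).mul h).mul (in_Tm hS (inv_ne_zero ht)) using 1
    ext i j
    fin_cases i <;> fin_cases j <;>
      (simp only [mul_three]; simp [Tm, Matrix.diagonal_apply, Matrix.single_apply,
        Matrix.one_apply, ht]) <;> ring
  have hroot0 : ∀ a b : Fin 3, Root K a b 0 := fun a b => by
    show In K _
    rw [Matrix.single_zero, add_zero]
    exact ⟨1, K.one_mem, rfl⟩
  have hneg : ∀ a b : Fin 3, a ≠ b → ∀ μ : F, Root K a b μ → Root K a b (-μ) := fun a b hab μ hμ => by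
    refine In.inv hμ ?_
    rw [root_mul hab, add_neg_cancel, Matrix.single_zero, add_zero]
  have hsq' : ∀ t : F, Root K 0 2 (t * t * ν) := fun t => by
    by_cases ht : t = 0
    · rw [ht, zero_mul, zero_mul]; exact hroot0 _ _
    · exact hsq t ht
  have h02 : ∀ c : F, Root K 0 2 c := fun c => by
    set d := c / ν with hd
    have h1 := In.mul (hsq' ((d + 1) / 2)) (hneg 0 2 (by decide) _ (hsq' ((d - 1) / 2)))
    rw [root_mul (by decide)] at h1
    show In K _
    have e : (d + 1) / 2 * ((d + 1) / 2) * ν + -((d - 1) / 2 * ((d - 1) / 2) * ν) = c := by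
      rw [hd]; field_simp; ring
    rwa [e] at h1
  have h20 : ∀ c : F, Root K 2 0 c := fun c => by
    show In K _
    convert ((in_Wm hS).mul (h02 c)).mul (in_Wm hS) using 1
    ext i j
    fin_cases i <;> fin_cases j <;>
      (simp only [mul_three]; simp [Wm, Matrix.single_apply, Matrix.one_apply])
  set e0 : V := Pi.single 0 1 with he0
  -- the transvection at `(1, 1, 1)` moved by the root elements
  obtain ⟨g1, hg1, hg1e⟩ := h20 1
  obtain ⟨g2, hg2, hg2e⟩ := in_Um hS 1
  obtain ⟨g3, hg3, hg3e⟩ := in_Wm hS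
  have hb := hasTv_of_root (by decide) (h02 1)
  have hu : HasTv K (![1, 1, 1] : V) ![1, -2, 1] := by
    have := HasTv.conj (g := g2 * g3) (c := e0) (φ := (![1, -2, 1] : V)) (mul_mem hg2 hg3) ?_
    · convert this using 1
      rw [Matrix.SpecialLinearGroup.coe_mul, hg2e, hg3e, he0]
      funext i
      fin_cases i <;> (simp only [Matrix.mulVec_single_one, Matrix.col_apply, mul_three]; simp [Um, Wm])
    · convert hb using 1
      funext i
      rw [Matrix.SpecialLinearGroup.coe_mul, hg2e, hg3e]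
      fin_cases i <;> (simp only [Matrix.vecMul, dotProduct, Fin.sum_univ_three, mul_three]; simp [Um, Wm]) <;> ring
  have hz : HasTv K (![1, 1, 2] : V) ![0, -2, 1] := by
    have := HasTv.conj (g := g1) (c := (![1, 1, 1] : V)) (φ := (![0, -2, 1] : V)) hg1 ?_
    · convert this using 1
      rw [hg1e]
      funext i
      fin_cases i <;> simp [mulVec_three, Matrix.single_apply, Matrix.one_apply]
      norm_num
    · convert hu using 1
      rw [hg1e]
      funext i
      fin_cases i <;>
        simp [Matrix.vecMul, dotProduct, Fin.sum_univ_three, Matrix.single_apply, Matrix.one_apply]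
  have hc := hb.comm hz (by simp [dotProduct, Fin.sum_univ_three])
  have hval : ((Pi.single 2 1 : V) ⬝ᵥ ![1, 1, 2]) • (![0, -2, 1] : V) = ![0, -4, 2] := by
    funext i
    fin_cases i <;> simp [dotProduct, Fin.sum_univ_three] <;> norm_num
  rw [hval] at hc
  have h01 : HasTv K e0 (![0, -4, 0] : V) := by
    have := hc.sub (hasTv_of_root (by decide) (h02 2))
    convert this using 1
    funext i
    fin_cases i <;> simp
  have hfull : Full K e0 := by
    intro φ hφ
    have hφ0 : φ 0 = 0 := by simpa [he0] using hφ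
    have hsc : ∀ t : F, t ≠ 0 → HasTv K e0 (![0, t * -4, 0] : V) := fun t ht => by
      obtain ⟨g, hg, hge⟩ := in_Tm hS (inv_ne_zero ht)
      have := h01.conj' hg (c' := t • e0) (by
        rw [hge, Tm, he0]
        funext i
        fin_cases i <;> simp [Matrix.mulVec_diagonal, ht])
      have := this.scale ht
      convert this using 1
      funext i
      rw [hge, Tm]
      fin_cases i <;> simp [Matrix.vecMul_diagonal]
    have h1 : HasTv K e0 (![0, φ 1, 0] : V) := by
      by_cases h : φ 1 = 0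
      · rw [h, show (![0, 0, 0] : V) = 0 by funext i; fin_cases i <;> rfl]
        exact HasTv.zero _
      · have h4 : (4 : F) ≠ 0 := fun e => h2 (mul_self_eq_zero.1 (by linear_combination e))
        have := hsc (φ 1 / -4) (div_ne_zero h (neg_ne_zero.2 h4))
        rwa [div_mul_cancel₀ _ (neg_ne_zero.2 h4)] at this
    have := h1.add (hasTv_of_root (by decide) (h02 (φ 2)))
    convert this using 1
    funext i
    fin_cases i <;> simp [hφ0]
  refine eq_top_of_full (by norm_num) (eq_top_iff.2 fun x _ => ?_)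
  have f2 := full_conj hg3 hfull
  have f1 := full_conj (mul_mem hg2 hg3) hfull
  have e2 : g3.1 *ᵥ e0 = (![0, 0, 1] : V) := by
    rw [hg3e, he0]; funext i; fin_cases i <;> simp [Wm, Matrix.mulVec_single_one]
  have e1 : (g2 * g3).1 *ᵥ e0 = (![1, 1, 1] : V) := by
    rw [Matrix.SpecialLinearGroup.coe_mul, hg2e, hg3e, he0]
    funext i
    fin_cases i <;> (simp only [Matrix.mulVec_single_one, Matrix.col_apply, mul_three]; simp [Um, Wm])
  rw [e2] at f2
  rw [e1] at f1
  rw [show x = (x 0 - x 1) • e0 + x 1 • (![1, 1, 1] : V) + (x 2 - x 1) • (![0, 0, 1] : V) by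
    funext i; rcases fin_three i with rfl | rfl | rfl <;> (simp only [he0, Pi.add_apply, Pi.smul_apply, Pi.single_apply, smul_eq_mul]; simp)]
  exact Submodule.add_mem _ (Submodule.add_mem _ (Submodule.smul_mem _ _ hfull)
    (Submodule.smul_mem _ _ f1)) (Submodule.smul_mem _ _ f2)

/-- A transvection at the flag point gives everything. -/
theorem top_of_row (h2 : (2 : F) ≠ 0) (hS : HasSim K) {p r : F} (hne : p ≠ 0 ∨ r ≠ 0)
    (h : In K (!![1, p, r; 0, 1, 0; 0, 0, 1] : Mn)) : K = ⊤ := by
  by_cases hp : p = 0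
  · refine top_of_root02 h2 hS (hne.resolve_left (not_not.2 hp)) ?_
    show In K _
    convert h using 1
    ext i j
    fin_cases i <;> fin_cases j <;> simp [Matrix.single_apply, hp]
  · obtain ⟨B, hB, hhB, -⟩ := h.inverse
    refine top_of_root02 h2 hS hp ?_
    show In K _
    convert (((in_Um hS (-1)).mul h).mul (in_Um hS 1)).mul hB using 1
    rw [show B = (!![1, -p, -r; 0, 1, 0; 0, 0, 1] : Mn) from (left_inv_eq_right_inv (by
      ext i j
      fin_cases i <;> fin_cases j <;> (simp only [mul_three]; simp [])) hhB).symm]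
    ext i j
    fin_cases i <;> fin_cases j <;>
      (simp only [mul_three]; simp [Um, Matrix.single_apply, Matrix.one_apply]) <;> ring

/-- A member fixing the flag point has lower left entry zero. -/
theorem lower_zero (h2 : (2 : F) ≠ 0) (hS : HasSim K) (hK : K ≠ ⊤) {A : Mn} (hA : In K A)
    (h10 : A 1 0 = 0) (h20 : A 2 0 = 0) : A 2 1 = 0 := by
  by_contra hc
  set c := A 2 1 with hcdef
  set B := Um (-(A 1 1) / c) * A with hB
  have hBK : In K B := (in_Um hS _).mul hA
  have ent : ∀ i j, B i j = Um (-(A 1 1) / c) i 0 * A 0 j + Um (-(A 1 1) / c) i 1 * A 1 j +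
      Um (-(A 1 1) / c) i 2 * A 2 j := fun i j => by
    rw [hB, Matrix.mul_apply, Fin.sum_univ_three]
  set C := B * Um (-(A 2 2) / c) with hC
  have hCK : In K C := hBK.mul (in_Um hS _)
  have cnt : ∀ i j, C i j = B i 0 * Um (-(A 2 2) / c) 0 j + B i 1 * Um (-(A 2 2) / c) 1 j +
      B i 2 * Um (-(A 2 2) / c) 2 j := fun i j => by
    rw [hC, Matrix.mul_apply, Fin.sum_univ_three]
  have C10 : C 1 0 = 0 := by rw [cnt, ent, ent, ent]; simp [Um, h10, h20]
  have C20 : C 2 0 = 0 := by rw [cnt, ent, ent, ent]; simp [Um, h10, h20]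
  have C11 : C 1 1 = 0 := by
    rw [cnt, ent, ent, ent]
    simp [Um, h10, h20]
    rw [← hcdef]; field_simp; ring
  have C21 : C 2 1 = c := by rw [cnt, ent, ent, ent]; simp [Um, h20]; rw [← hcdef]
  have C22 : C 2 2 = 0 := by
    rw [cnt, ent, ent, ent]
    simp [Um, h20]
    rw [← hcdef]; field_simp; ring
  set s := C 0 0
  set b := C 1 2
  have hdet : -(s * b * c) = 1 := by
    have := hCK.det
    rw [Matrix.det_fin_three, C10, C20, C11, C21, C22] at this
    linear_combination this
  have hs : s ≠ 0 := fun h => by rw [h] at hdet; simp at hdet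
  obtain ⟨t, ht, ht2, hne⟩ : ∃ t : F, t ≠ 0 ∧ t * t = 1 ∧ (s * t) * (s * t) ≠ b * c * t⁻¹ := by
    by_cases h : s * s = b * c
    · refine ⟨-1, neg_ne_zero.2 one_ne_zero, by ring, fun h' => ?_⟩
      have h'' : (2 : F) * (s * s) = 0 := by
        rw [inv_neg, inv_one] at h'
        linear_combination h' + h
      exact mul_ne_zero h2 (mul_ne_zero hs hs) h''
    · exact ⟨1, one_ne_zero, one_mul _, fun h' => h (by simpa using h')⟩
  set G := Tm t * C with hG
  have hGK : In K G := (in_Tm hS ht).mul hCK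
  set X := G * G with hX
  have hXK : In K X := hGK.mul hGK
  have G' : ∀ i j, G i j = (![t, 1, t⁻¹] : V) i * C i j := fun i j => by
    rw [hG, Tm, Matrix.diagonal_mul]
  have xnt : ∀ i j, X i j = G i 0 * G 0 j + G i 1 * G 1 j + G i 2 * G 2 j := fun i j => by
    rw [hX, Matrix.mul_apply, Fin.sum_univ_three]
  have X10 : X 1 0 = 0 := by rw [xnt]; simp [G', C10, C20]
  have X20 : X 2 0 = 0 := by rw [xnt]; simp [G', C10, C20]
  have X12 : X 1 2 = 0 := by rw [xnt]; simp [G', C10, C11, C22]
  have X21 : X 2 1 = 0 := by rw [xnt]; simp [G', C20, C11, C22]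
  have X11 : X 1 1 = b * c * t⁻¹ := by rw [xnt]; simp [G', C10, C11, C21]; ring
  have X22 : X 2 2 = b * c * t⁻¹ := by rw [xnt]; simp [G', C20, C21, C22]; ring
  have X00 : X 0 0 = (s * t) * (s * t) := by rw [xnt]; simp [G', C10, C20]; ring
  obtain ⟨Y, hY, hXY, hYX⟩ := hXK.inverse
  -- the commutator with a unipotent element
  set U := Um (1 : F)
  set D := U * X - X * U with hD
  set Z := U * X * Um (-1) * Y with hZ
  have hZK : In K Z := (((in_Um hS 1).mul hXK).mul (in_Um hS (-1))).mul hY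
  have hUU : U * Um (-1) = 1 := by
    rw [Um_add, add_neg_cancel]
    ext i j; fin_cases i <;> fin_cases j <;> simp [Um]
  have hZ' : Z = 1 + D * (Um (-1) * Y) := by
    rw [hZ, hD, Matrix.sub_mul, Matrix.mul_assoc X U, ← Matrix.mul_assoc U (Um (-1)) Y, hUU,
      Matrix.one_mul, hXY]
    simp only [Matrix.mul_assoc]
    abel
  have dnt : ∀ i j, D i j = U i 0 * X 0 j + U i 1 * X 1 j + U i 2 * X 2 j -
      (X i 0 * U 0 j + X i 1 * U 1 j + X i 2 * U 2 j) := fun i j => by
    rw [hD, Matrix.sub_apply, Matrix.mul_apply, Matrix.mul_apply, Fin.sum_univ_three, Fin.sum_univ_three]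
  have D1 : ∀ j, D 1 j = 0 := fun j => by
    rw [dnt]
    fin_cases j <;> simp [U, Um, X10, X20, X12, X21, X11, X22]
  have D2 : ∀ j, D 2 j = 0 := fun j => by
    rw [dnt]
    fin_cases j <;> simp [U, Um, X20, X21, X22]
  have D00 : D 0 0 = 0 := by rw [dnt]; simp [U, Um, X10, X20]
  have D01 : D 0 1 = 2 * (b * c * t⁻¹ - (s * t) * (s * t)) := by
    rw [dnt]; simp [U, Um, X21, X11, X00]; ring
  set W := Um (-1) * Y
  have hrow : ∀ i, i ≠ 0 → ∀ j, (D * W) i j = 0 := fun i hi j => by
    rw [Matrix.mul_apply]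
    refine Finset.sum_eq_zero fun k _ => ?_
    rcases fin_three' i hi with rfl | rfl
    · rw [D1, zero_mul]
    · rw [D2, zero_mul]
  have hDW0 : (D * W) 0 0 = 0 := by
    have hY10 : Y 1 0 = 0 ∧ Y 2 0 = 0 := by
      have e1 := congrFun (congrFun hYX 1) 0
      have e2 := congrFun (congrFun hYX 2) 0
      rw [Matrix.mul_apply, Fin.sum_univ_three, X10, X20, mul_zero, add_zero, mul_zero, add_zero,
        X00, Matrix.one_apply_ne (by decide), mul_eq_zero] at e1 e2
      exact ⟨e1.resolve_right (mul_ne_zero (mul_ne_zero hs ht) (mul_ne_zero hs ht)),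
        e2.resolve_right (mul_ne_zero (mul_ne_zero hs ht) (mul_ne_zero hs ht))⟩
    simp only [W, mul_three]
    simp [D00, Um, hY10.1, hY10.2]
  refine hK (top_of_row h2 hS (p := (D * W) 0 1) (r := (D * W) 0 2) ?_ ?_)
  · by_contra hn
    push Not at hn
    have hz : D * W = 0 := by
      ext i j
      by_cases hi : i = 0
      · subst hi
        fin_cases j
        · exact hDW0
        · exact hn.1
        · exact hn.2
      · exact hrow i hi j
    have hWinv : W * (X * U) = 1 := by
      have h1 : Um (-1 : F) * U = 1 := by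
        rw [Um_add, neg_add_cancel]
        ext i j; fin_cases i <;> fin_cases j <;> simp [Um]
      show Um (-1) * Y * (X * U) = 1
      rw [Matrix.mul_assoc, ← Matrix.mul_assoc Y, hYX, Matrix.one_mul, h1]
    have hD0 : D = 0 := by
      rw [← Matrix.mul_one D, ← hWinv, ← Matrix.mul_assoc, hz, Matrix.zero_mul]
    rw [hD0, Matrix.zero_apply, eq_comm, mul_eq_zero] at D01
    exact hne (sub_eq_zero.1 (D01.resolve_left h2)).symm
  · convert hZK using 1
    rw [hZ']
    ext i j
    rw [Matrix.add_apply]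
    by_cases hi : i = 0
    · subst hi
      rcases fin_three j with rfl | rfl | rfl
      · simp [hDW0]
      · simp
      · simp
    · rw [hrow i hi j, add_zero]
      rcases fin_three' i hi with rfl | rfl <;> rcases fin_three j with rfl | rfl | rfl <;> simp

/-- A member fixing a singular point is a similarity. -/
theorem flag (h2 : (2 : F) ≠ 0) (hS : HasSim K) (hK : K ≠ ⊤) {A : Mn} (hA : In K A)
    (h10 : A 1 0 = 0) (h20 : A 2 0 = 0) : Sim A ∧ A 2 1 = 0 := by
  have h21 := lower_zero h2 hS hK hA h10 h20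
  refine ⟨?_, h21⟩
  obtain ⟨s, h00⟩ : ∃ s, A 0 0 = s := ⟨_, rfl⟩
  obtain ⟨a, h11⟩ : ∃ a, A 1 1 = a := ⟨_, rfl⟩
  obtain ⟨c, h22⟩ : ∃ c, A 2 2 = c := ⟨_, rfl⟩
  have hdet : s * a * c = 1 := by
    have := hA.det
    rw [Matrix.det_fin_three, h10, h20, h21, h00, h11, h22] at this
    linear_combination this
  have hs : s ≠ 0 := fun h => by rw [h] at hdet; simp at hdet
  have ha : a ≠ 0 := fun h => by rw [h] at hdet; simp at hdet
  have hc : c ≠ 0 := fun h => by rw [h] at hdet; simp at hdet
  -- the slope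
  obtain ⟨B, hB, hAB, hBA⟩ := hA.inverse
  have hBval : B = !![s⁻¹, -(A 0 1) / (s * a), (A 0 1 * A 1 2 - A 0 2 * a) / (s * a * c);
      0, a⁻¹, -(A 1 2) / (a * c); 0, 0, c⁻¹] := by
    refine (left_inv_eq_right_inv ?_ hAB).symm
    ext i j
    fin_cases i <;> fin_cases j <;>
      (simp only [mul_three]; simp [h10, h20, h21, h00, h11, h22, hs, ha, hc]) <;> field_simp <;> ring
  have hsc : s * c = a * a := by
    by_contra hne
    have hK2 := (((hA.mul (in_Um hS 1)).mul hB).mul (in_Um hS (-(a / c))))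
    have e : A * Um 1 * B * Um (-(a / c)) =
        !![1, 2 * (s / a - a / c), (A * Um 1 * B * Um (-(a / c)) : Mn) 0 2; 0, 1, 0; 0, 0, 1] := by
      ext i j
      fin_cases i <;> fin_cases j <;>
        (simp only [mul_three]; simp [hBval, Um, h10, h20, h21, h00, h11, h22, hs, ha, hc]) <;>
        field_simp <;> ring
    rw [e] at hK2
    refine hK (top_of_row h2 hS (Or.inl ?_) hK2)
    refine mul_ne_zero h2 (sub_ne_zero.2 fun h => hne ?_)
    rw [div_eq_div_iff ha hc] at h
    exact h
  -- normalise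
  set t := a / s with ht
  have ht0 : t ≠ 0 := div_ne_zero ha hs
  have hts : Sim (Tm t : Mn) := ⟨1, one_ne_zero, fun x => by
    simp [q0, Tm, Matrix.mulVec_diagonal]
    field_simp⟩
  set z := -(A 1 2) / a with hz
  have hUs : ∀ w : F, Sim (Um w) := fun w => ⟨1, one_ne_zero, fun x => by
    simp [q0, mulVec_three, Um]; ring⟩
  -- the scalar
  have hsc' : Sim (Matrix.diagonal fun _ => a : Mn) := ⟨a * a, mul_ne_zero ha ha, fun x => by
    simp [q0, Matrix.mulVec_diagonal]; ring⟩
  have ha3 : a * a * a = 1 := by linear_combination hdet - a * hsc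
  have haK : In K (Matrix.diagonal (fun _ => a⁻¹) : Mn) := by
    refine in_of_sim hS ?_ ⟨a⁻¹ * a⁻¹, mul_ne_zero (inv_ne_zero ha) (inv_ne_zero ha), fun x => by
      simp [q0, Matrix.mulVec_diagonal]; ring⟩
    rw [Matrix.det_diagonal, Fin.prod_univ_three, ← mul_inv, ← mul_inv, ha3, inv_one]
  set G := Matrix.diagonal (fun _ => a⁻¹) * (A * Tm t) with hG
  have hGK : In K G := haK.mul (hA.mul (in_Tm hS ht0))
  have hG' : ∀ i j, G i j = a⁻¹ * (A i j * (![t, 1, t⁻¹] : V) j) := fun i j => by
    rw [hG, Matrix.diagonal_mul, Tm, Matrix.mul_diagonal]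
  set w := G 1 2 with hw
  have G00 : G 0 0 = 1 := by
    rw [hG', ht]
    show a⁻¹ * (A 0 0 * (a / s)) = 1
    rw [h00]
    field_simp
  have G11 : G 1 1 = 1 := by rw [hG']; simp [h11, ha]
  have G22 : G 2 2 = 1 := by
    rw [hG', ht]; simp [h22]
    field_simp
    linear_combination hsc
  have G10 : G 1 0 = 0 := by rw [hG', h10]; simp
  have G20 : G 2 0 = 0 := by rw [hG', h20]; simp
  have G21 : G 2 1 = 0 := by rw [hG', h21]; simp
  have hHK : In K (G * Um (-w)) := hGK.mul (in_Um hS _)
  have hH : G * Um (-w) = !![1, G 0 1 - 2 * w, w * w + G 0 2 - G 0 1 * w; 0, 1, 0; 0, 0, 1] := by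
    ext i j
    fin_cases i <;> fin_cases j <;>
      (simp only [mul_three]; simp [Um, G00, G11, G22, G10, G20, G21, ← hw]) <;> ring
  have hzero : G 0 1 - 2 * w = 0 ∧ w * w + G 0 2 - G 0 1 * w = 0 := by
    by_contra hn
    rw [hH] at hHK
    exact hK (top_of_row h2 hS (by tauto) hHK)
  have hGU : G = Um w := by
    ext i j
    fin_cases i <;> fin_cases j <;> simp [Um, G00, G11, G22, G10, G20, G21, ← hw]
    · linear_combination hzero.1
    · linear_combination hzero.2 + w * hzero.1
  have hAeq : A = Matrix.diagonal (fun _ => a) * (Um w * Tm t⁻¹) := by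
    rw [← hGU, hG, Matrix.mul_assoc (Matrix.diagonal fun _ => a⁻¹), Matrix.mul_assoc A, Tm, Tm,
      Matrix.diagonal_mul_diagonal, show (fun i => (![t, 1, t⁻¹] : V) i * (![t⁻¹, 1, t⁻¹⁻¹] : V) i) = fun _ => (1 : F) by
        funext i; fin_cases i <;> simp [ht0],
      Matrix.diagonal_one, Matrix.mul_one, ← Matrix.mul_assoc, Matrix.diagonal_mul_diagonal]
    simp [ha]
  rw [hAeq]
  exact hsc'.mul ((hUs w).mul ⟨1, one_ne_zero, fun x => by
    simp [q0, Tm, Matrix.mulVec_diagonal]
    field_simp⟩)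

theorem exists_anisotropic_perp (h2 : (2 : F) ≠ 0) {v : V} (hv : q0 v ≠ 0) :
    ∃ u : V, b0 u v = 0 ∧ q0 u ≠ 0 := by
  by_contra hn
  push Not at hn
  have key : ∀ E : V, b0 E v * b0 E v = 4 * q0 E * q0 v := fun E => by
    obtain ⟨k, hk⟩ : ∃ k : F, 2 * q0 v * k = 1 := ⟨_, mul_inv_cancel₀ (mul_ne_zero h2 hv)⟩
    have h := hn (E - (b0 E v * k) • v) (by
      rw [b0_sub_smul, b0_self]
      linear_combination (-(b0 E v)) * hk)
    rw [q0_sub_smul] at h
    linear_combination (-4 * q0 v) * h + (b0 E v * b0 E v * (2 * q0 v * k - 1)) * hk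
  have k1 := key ![0, 1, 0]
  have k2 := key ![1, 0, 1]
  have k3 := key ![1, 0, -1]
  simp [b0, q0] at k1 k2 k3
  refine hv ((mul_eq_zero.1 (show ((2 : F) * 2 * 2) * q0 v = 0 from ?_)).resolve_left
    (mul_ne_zero (mul_ne_zero h2 h2) h2))
  simp only [q0]
  linear_combination -k1 + k2 - k3

/-- An involution fixing the flag point has diagonal `(-1, 1, -1)`. -/
theorem invol_diag (h2 : (2 : F) ≠ 0) (hS : HasSim K) (hK : K ≠ ⊤) {A : Mn} (hA : In K A)
    (h10 : A 1 0 = 0) (h20 : A 2 0 = 0) (hAA : A * A = 1) :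
    A = 1 ∨ (A 0 0 = -1 ∧ A 1 1 = 1 ∧ A 2 2 = -1 ∧ A 2 1 = 0) := by
  obtain ⟨-, h21⟩ := flag h2 hS hK hA h10 h20
  have ent : ∀ i j, A i 0 * A 0 j + A i 1 * A 1 j + A i 2 * A 2 j = (1 : Mn) i j := fun i j => by
    rw [← hAA, Matrix.mul_apply, Fin.sum_univ_three]
  have hdet : A 0 0 * A 1 1 * A 2 2 = 1 := by
    have := hA.det
    rw [Matrix.det_fin_three, h10, h20, h21] at this
    linear_combination this
  have e00 := ent 0 0
  have e11 := ent 1 1
  have e22 := ent 2 2
  have e01 := ent 0 1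
  have e12 := ent 1 2
  have e02 := ent 0 2
  simp [h10, h20, h21] at e00 e11 e22 e01 e12 e02
  rcases mul_self_eq_one_iff.1 e00 with h0 | h0 <;> rcases mul_self_eq_one_iff.1 e11 with h1 | h1 <;>
    rcases mul_self_eq_one_iff.1 e22 with h2' | h2'
  all_goals simp only [h0, h1, h2'] at hdet e01 e12 e02
  all_goals first
    | exact absurd (show (2 : F) = 0 by linear_combination hdet) h2
    | exact absurd (show (2 : F) = 0 by linear_combination -hdet) h2
    | skip
  · -- unipotent
    left
    have a01 : A 0 1 = 0 := (mul_eq_zero.1 (show (2 : F) * A 0 1 = 0 by linear_combination e01)).resolve_left h2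
    have a12 : A 1 2 = 0 := (mul_eq_zero.1 (show (2 : F) * A 1 2 = 0 by linear_combination e12)).resolve_left h2
    have a02 : A 0 2 = 0 := (mul_eq_zero.1 (show (2 : F) * A 0 2 = 0 by
      rw [a01, a12] at e02; linear_combination e02)).resolve_left h2
    ext i j
    fin_cases i <;> fin_cases j <;> simp [h0, h1, h2', h10, h20, h21, a01, a12, a02]
  all_goals first
    | exact Or.inr ⟨h0, h1, h2', h21⟩
    | skip
  all_goals
    exfalso
    -- the similarity condition on the diagonal
    obtain ⟨⟨l, hl, hAs⟩, -⟩ := flag h2 hS hK hA h10 h20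
    have k1 := hAs ![0, 1, 0]
    have k2 := hAs ![1, 0, 1]
    have k3 := hAs ![1, 0, 2]
    simp [q0, mulVec_three, h10, h20, h21, h0, h1, h2'] at k1 k2 k3
    exact h2 (mul_self_eq_zero.1 (by linear_combination -k3 + 4 * k2 + 2 * k1))

/-- An overgroup of the similarity group is trivial. -/
theorem sim_of_mem (h2 : (2 : F) ≠ 0) (hS : HasSim K) (hK : K ≠ ⊤) {A : Mn} (hA : In K A) : Sim A := by
  set e0 : V := Pi.single 0 1 with he0
  set v := A *ᵥ e0 with hv
  have hv0 : v ≠ 0 := fun h => by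
    obtain ⟨B, -, -, hBA⟩ := hA.inverse
    have h' := congrArg (fun z => B *ᵥ z) h
    simp only [hv, Matrix.mulVec_mulVec, hBA, Matrix.one_mulVec, Matrix.mulVec_zero] at h'
    simpa [he0] using congrFun h' 0
  by_cases hq : q0 v = 0
  · -- move `v` back to the first point
    have hback : ∃ S : Mn, In K S ∧ Sim S ∧ (S *ᵥ v) 1 = 0 ∧ (S *ᵥ v) 2 = 0 := by
      have hUs : ∀ w : F, Sim (Um w) := fun w => ⟨1, one_ne_zero, fun x => by
        simp [q0, mulVec_three, Um]; ring⟩
      have hWs : Sim (Wm : Mn) := ⟨1, one_ne_zero, fun x => by simp [q0, mulVec_three, Wm]; ring⟩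
      by_cases h2v : v 2 = 0
      · refine ⟨1, ⟨1, K.one_mem, rfl⟩, ⟨1, one_ne_zero, fun x => by rw [Matrix.one_mulVec, one_mul]⟩, ?_, ?_⟩ <;>
          rw [Matrix.one_mulVec]
        · simp only [q0, h2v, mul_zero, sub_zero] at hq
          exact mul_self_eq_zero.1 hq
        · exact h2v
      · refine ⟨Wm * Um (-(v 1 / v 2)), (in_Wm hS).mul (in_Um hS _), hWs.mul (hUs _), ?_, ?_⟩ <;>
          rw [← Matrix.mulVec_mulVec] <;> simp only [mulVec_three] <;> simp [Um, Wm]
        · field_simp; ring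
        · simp only [q0] at hq
          field_simp
          linear_combination -hq
    obtain ⟨S, hSK, hSs, h1, h2'⟩ := hback
    have hent : ∀ i, (S * A) i 0 = (S *ᵥ v) i := fun i => by
      rw [hv, Matrix.mulVec_mulVec, he0, Matrix.mulVec_single_one]; rfl
    obtain ⟨⟨l, hl, hls⟩, -⟩ := flag h2 hS hK (hSK.mul hA) (by rw [hent, h1]) (by rw [hent, h2'])
    obtain ⟨k, hk, hks⟩ := hSs
    refine ⟨l / k, div_ne_zero hl hk, fun x => ?_⟩
    have := hls x
    rw [← Matrix.mulVec_mulVec, hks] at this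
    field_simp
    linear_combination this
  · exfalso
    obtain ⟨u, hu, hqu⟩ := exists_anisotropic_perp h2 hq
    let bv : V → V := fun w => ![-w 2, 2 * w 1, -w 0]
    have hbv : ∀ w x, bv w ⬝ᵥ x = b0 x w := fun w x => by
      simp [bv, b0, dotProduct, Fin.sum_univ_three]; ring
    let R : V → Mn := fun w => -(1 + vecMulVec w (-(q0 w)⁻¹ • bv w))
    have hRx : ∀ w x, R w *ᵥ x = -x + (b0 x w / q0 w) • w := fun w x => by
      simp only [R]
      rw [neg_mulVec, add_mulVec, one_mulVec, vecMulVec_mulVec, op_smul_eq_smul, smul_dotProduct, hbv,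
        smul_eq_mul, neg_add, ← neg_smul]
      congr 2
      ring
    have hR : ∀ w, q0 w ≠ 0 → In K (R w) ∧ R w * R w = 1 := fun w hw => by
      have hww : b0 w w = 2 * q0 w := by simp [b0, q0]; ring
      refine ⟨in_of_sim hS ?_ ⟨1, one_ne_zero, fun x => ?_⟩, ?_⟩
      · simp only [R]
        rw [Matrix.det_neg, vecMulVec_eq Unit, Matrix.det_one_add_replicateCol_mul_replicateRow,
          smul_dotProduct, hbv, hww, smul_eq_mul, Fintype.card_fin]
        field_simp
        ring
      · rw [hRx, show -x + (b0 x w / q0 w) • w = -x - (-(b0 x w / q0 w)) • w by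
          rw [neg_smul, sub_neg_eq_add], q0_sub_smul, q0_neg, b0_neg]
        field_simp
        ring
      · refine Matrix.toLin'.injective (LinearMap.ext fun x => ?_)
        rw [Matrix.toLin'_apply, Matrix.toLin'_one, ← Matrix.mulVec_mulVec, hRx, hRx,
          show b0 (-x + (b0 x w / q0 w) • w) w = b0 x w by
            rw [show -x + (b0 x w / q0 w) • w = -x - (-(b0 x w / q0 w)) • w by
              rw [neg_smul, sub_neg_eq_add], b0_sub_smul, b0_neg, hww]
            field_simp
            ring]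
        simp
    obtain ⟨B, hB, hAB, hBA⟩ := hA.inverse
    have hvv : b0 v v = 2 * q0 v := by simp [b0, q0]; ring
    have huv : b0 v u = 0 := by simp only [b0] at hu ⊢; linear_combination hu
    have r1v : R v *ᵥ v = v := by
      rw [hRx, hvv, mul_div_assoc, div_self hq, mul_one, two_smul]; abel
    have r2v : R u *ᵥ v = -v := by rw [hRx, huv, zero_div, zero_smul, add_zero]
    have hpull : ∀ S : Mn, In K S → S * S = 1 → ∀ e : F, S *ᵥ v = e • v →
        In K (B * S * A) ∧ (B * S * A) * (B * S * A) = 1 ∧ (B * S * A) 0 0 = e ∧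
          (B * S * A) 1 0 = 0 ∧ (B * S * A) 2 0 = 0 := by
      intro S hSK hSS e he
      refine ⟨(hB.mul hSK).mul hA, ?_, ?_⟩
      · rw [show B * S * A * (B * S * A) = B * S * (A * B) * S * A by simp only [Matrix.mul_assoc], hAB,
          Matrix.mul_one, Matrix.mul_assoc B S S, hSS, Matrix.mul_one, hBA]
      · have hc : ∀ i, (B * S * A) i 0 = e * e0 i := fun i => by
          have h : (B * S * A) *ᵥ e0 = e • e0 := by
            rw [← Matrix.mulVec_mulVec, ← hv, ← Matrix.mulVec_mulVec, he, Matrix.mulVec_smul, hv,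
              Matrix.mulVec_mulVec, hBA, Matrix.one_mulVec]
          have := congrFun h i
          rwa [he0, Matrix.mulVec_single_one, Matrix.col_apply] at this
        simp [hc, he0]
    obtain ⟨hK1, hsq1, h00, h10, h20⟩ := hpull _ (hR v hq).1 (hR v hq).2 1 (by rw [r1v, one_smul])
    rcases invol_diag h2 hS hK hK1 h10 h20 hsq1 with h | ⟨h, -⟩
    · -- then the reflection would be trivial
      have hRv : R v = 1 := by
        rw [← Matrix.one_mul (R v), ← hAB, ← Matrix.mul_one (A * B * R v), ← hAB,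
          show A * B * R v * (A * B) = A * (B * R v * A) * B by simp only [Matrix.mul_assoc], h,
          Matrix.mul_one]
      have hru : R v *ᵥ u = -u := by rw [hRx, hu, zero_div, zero_smul, add_zero]
      rw [hRv, Matrix.one_mulVec] at hru
      refine hqu ?_
      have : ∀ i, u i = 0 := fun i => (mul_eq_zero.1 (show (2 : F) * u i = 0 by
        have := congrFun hru i
        rw [Pi.neg_apply] at this
        linear_combination this)).resolve_left h2
      simp [q0, this]
    · exact h2 (by linear_combination h - h00)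

open QuadraticMap (polar polarBilin) in
/-- A coordinate system in which a form is a multiple of the standard one. -/
theorem exists_standard (h2 : (2 : F) ≠ 0) {R : QuadraticForm F (Fin 3 → F)}
    (hR : (QuadraticMap.polarBilin R).Nondegenerate) :
    ∃ (P : Mn) (μ : F), μ ≠ 0 ∧ IsUnit P ∧ ∀ x, R (P *ᵥ x) = μ * q0 x := by
  obtain ⟨e, -, he0, he⟩ := Orth.exists_singular_in (Q := R) (S := (⊤ : Submodule F V))
    (by rw [finrank_top, Module.finrank_fin_fun])
  obtain ⟨f0, hf0⟩ : ∃ f0, polar R e f0 ≠ 0 := by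
    by_contra h
    push Not at h
    exact he0 (hR.1 e fun x => h x)
  set β := polar R e f0 with hβ
  set f := f0 - (R f0 / β) • e with hf
  have hee : polar R e e = 0 := by rw [QuadraticMap.polar_self, he, smul_zero]
  have hef : polar R e f = β := by
    rw [hf, QuadraticMap.polar_sub_right, QuadraticMap.polar_smul_right, hee, smul_zero, sub_zero]
  have hfe : polar R f e = β := by rw [QuadraticMap.polar_comm, hef]
  have hff : R f = 0 := by
    rw [hf, sub_eq_add_neg, QuadraticMap.map_add (⇑R), QuadraticMap.map_neg, QuadraticMap.map_smul,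
      QuadraticMap.polar_neg_right, QuadraticMap.polar_smul_right, QuadraticMap.polar_comm R f0,
      ← hβ, he, smul_zero, add_zero, smul_eq_mul, div_mul_cancel₀ _ hf0, add_neg_cancel]
  have hff' : polar R f f = 0 := by rw [QuadraticMap.polar_self, hff, smul_zero]
  let L : V →ₗ[F] Fin 2 → F := LinearMap.pi fun i => (polarBilin R).flip (![e, f] i)
  obtain ⟨u, hu, hu0⟩ := Submodule.exists_mem_ne_zero_of_ne_bot (p := LinearMap.ker L) fun h => by
    have := LinearMap.finrank_le_finrank_of_injective (LinearMap.ker_eq_bot.1 h)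
    rw [Module.finrank_fin_fun, Module.finrank_fin_fun] at this
    omega
  have hue : polar R u e = 0 := congrFun hu 0
  have huf : polar R u f = 0 := congrFun hu 1
  have ind : ∀ a b c : F, a • e + b • u + c • f = 0 → a = 0 ∧ b = 0 ∧ c = 0 := by
    intro a b c h
    have h1 := congrArg (fun z => polar R z e) h
    have h2 := congrArg (fun z => polar R z f) h
    simp only [QuadraticMap.polar_add_left, QuadraticMap.polar_smul_left, hee, hfe, hue, hef, huf, hff',
      QuadraticMap.polar_zero_left, smul_eq_mul, mul_zero, zero_add, add_zero] at h1 h2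
    have hc := (mul_eq_zero.1 h1).resolve_right hf0
    have ha := (mul_eq_zero.1 h2).resolve_right hf0
    rw [ha, hc, zero_smul, zero_smul, zero_add, add_zero, smul_eq_zero] at h
    exact ⟨ha, h.resolve_right hu0, hc⟩
  have hμ : R u ≠ 0 := fun hu1 => by
    set P : Mn := Matrix.of fun i j => (![e, u, f] : Fin 3 → V) j i
    have hP : ∀ x : V, P *ᵥ x = x 0 • e + x 1 • u + x 2 • f := fun x => by
      funext i
      simp [P, mulVec_three]
      ring
    have hinj : Function.Injective (Matrix.toLin' P) := by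
      refine (injective_iff_map_eq_zero _).2 fun x hx => ?_
      rw [Matrix.toLin'_apply, hP] at hx
      obtain ⟨a0, a1, a2⟩ := ind _ _ _ hx
      funext i
      rcases fin_three i with rfl | rfl | rfl <;> assumption
    refine hu0 (hR.1 u fun z => ?_)
    obtain ⟨x, rfl⟩ := LinearMap.surjective_of_injective hinj z
    show polar R u _ = 0
    rw [Matrix.toLin'_apply, hP]
    simp [QuadraticMap.polar_add_right, QuadraticMap.polar_smul_right, hue, huf,
      QuadraticMap.polar_self, hu1]
  set f' := (-R u / β) • f with hf'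
  have ha : -R u / β ≠ 0 := div_ne_zero (neg_ne_zero.2 hμ) hf0
  set P : Mn := Matrix.of fun i j => (![e, u, f'] : Fin 3 → V) j i
  have hP : ∀ x : V, P *ᵥ x = x 0 • e + x 1 • u + (x 2 * (-R u / β)) • f := fun x => by
    funext i
    simp [P, f', mulVec_three]
    ring
  refine ⟨P, R u, hμ, Matrix.mulVec_injective_iff_isUnit.1 fun x y hxy => ?_, fun x => ?_⟩
  · rw [← sub_eq_zero, ← Matrix.mulVec_sub, hP] at hxy
    obtain ⟨a0, a1, a2⟩ := ind _ _ _ hxy
    rw [← sub_eq_zero]
    funext i
    rcases fin_three i with rfl | rfl | rfl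
    · exact a0
    · exact a1
    · exact (mul_eq_zero.1 a2).resolve_right ha
  · rw [hP, QuadraticMap.map_add (⇑R), QuadraticMap.map_add (⇑R)]
    simp only [QuadraticMap.map_smul, QuadraticMap.polar_add_left, QuadraticMap.polar_smul_left,
      QuadraticMap.polar_smul_right, QuadraticMap.polar_comm R e u, hue, huf, hef, he, hff,
      smul_eq_mul, mul_zero, add_zero, zero_add, q0]
    field_simp
    ring

/-- The similarity group of a non-degenerate form is maximal in `SL_3`, odd characteristic. -/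
theorem sl_quadratic_maximal_three (h2 : (2 : F) ≠ 0) {Q : (Fin 3 → F) → F}
    (hQ : IsNondegenerateQuadraticForm Q) :
    IsMaximalIn (specialLinear (Fin 3) F) (quadSimilarityGroup Q ⊓ specialLinear (Fin 3) F) := by
  obtain ⟨R, rfl, hR⟩ := Orth.exists_form hQ
  refine ⟨lt_of_le_of_ne inf_le_right fun e => sl_not_le_similarity (n := 3) le_rfl
    hQ.polar_bilinear.add_left hQ.polar_bilinear.smul_left hQ.nondegenerate fun g hg => ?_,
    fun M hM hMG => ?_⟩
  · rw [← e] at hg
    obtain ⟨c, hc⟩ := hg.1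
    refine ⟨c, fun x y => ?_⟩
    show QuadraticMap.polar R _ _ = _
    simp only [QuadraticMap.polar, ← Matrix.mulVec_add, hc]
    ring
  by_cases hle : M ≤ quadSimilarityGroup ⇑R
  · exact Or.inl (le_antisymm (le_inf hle hMG) hM)
  obtain ⟨g', hg', hgQ'⟩ := SetLike.not_le_iff_exists.1 hle
  obtain ⟨g, hg, hge⟩ := exists_sl_of hMG hg'
  refine Or.inr (le_antisymm hMG (specialLinear_le_of_top ?_))
  set K := M.comap Matrix.SpecialLinearGroup.toGL
  obtain ⟨P, μ, hμ, hPu, hPq⟩ := exists_standard h2 hR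
  have hPd := (Matrix.isUnit_iff_isUnit_det P).1 hPu
  have h1 : P * P⁻¹ = 1 := Matrix.mul_nonsing_inv P hPd
  have h1' : P⁻¹ * P = 1 := Matrix.nonsing_inv_mul P hPd
  let ψ : SL →* SL :=
    MonoidHom.mk' (fun y => ⟨P * y.1 * P⁻¹, by
      rw [Matrix.det_mul, Matrix.det_mul, mul_right_comm, ← Matrix.det_mul, h1, Matrix.det_one,
        one_mul, y.2]⟩) fun y z => Subtype.ext (by
      show P * (y.1 * z.1) * P⁻¹ = P * y.1 * P⁻¹ * (P * z.1 * P⁻¹)
      rw [show P * y.1 * P⁻¹ * (P * z.1 * P⁻¹) = P * y.1 * (P⁻¹ * P) * z.1 * P⁻¹ by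
        simp only [mul_assoc], h1', mul_one]
      simp only [mul_assoc])
  let back : SL → SL := fun z => ⟨P⁻¹ * z.1 * P, by
    rw [Matrix.det_mul, Matrix.det_mul, mul_right_comm, ← Matrix.det_mul, h1', Matrix.det_one,
      one_mul, z.2]⟩
  have hback : ∀ z, ψ (back z) = z := fun z => Subtype.ext (by
    show P * (P⁻¹ * z.1 * P) * P⁻¹ = z.1
    rw [show P * (P⁻¹ * z.1 * P) * P⁻¹ = (P * P⁻¹) * z.1 * (P * P⁻¹) by simp only [mul_assoc], h1,
      one_mul, mul_one])
  have hmv : ∀ (y : SL) (x : V), R ((ψ y).1 *ᵥ (P *ᵥ x)) = μ * q0 (y.1 *ᵥ x) := fun y x => by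
    show R ((P * y.1 * P⁻¹) *ᵥ (P *ᵥ x)) = _
    rw [Matrix.mulVec_mulVec, mul_assoc, h1', mul_one, ← Matrix.mulVec_mulVec, hPq]
  have hsurj : ∀ w : V, ∃ x, P *ᵥ x = w := fun w =>
    ⟨P⁻¹ *ᵥ w, by rw [Matrix.mulVec_mulVec, h1, Matrix.one_mulVec]⟩
  have hmem : ∀ y : SL, Sim y.1 →
      (Matrix.SpecialLinearGroup.toGL (ψ y) : GL (Fin 3) F) ∈ quadSimilarityGroup ⇑R := by
    rintro y ⟨l, hl, hy⟩
    refine ⟨Units.mk0 l hl, fun w => ?_⟩
    obtain ⟨x, rfl⟩ := hsurj w
    show R ((ψ y).1 *ᵥ (P *ᵥ x)) = l * R (P *ᵥ x)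
    rw [hmv, hy, hPq]
    ring
  have hS : HasSim (K.comap ψ) := fun y hy => hM ⟨hmem y hy, Units.ext (ψ y).2⟩
  have htop : K.comap ψ = ⊤ := by
    by_contra hne
    refine hgQ' ?_
    have := hmem (back g) (sim_of_mem h2 hS hne ⟨back g, (by show ψ (back g) ∈ K; rwa [hback]), rfl⟩)
    rw [hback] at this
    convert this using 1
    exact Units.ext hge.symm
  refine eq_top_iff.2 fun z _ => ?_
  have hz : back z ∈ K.comap ψ := by rw [htop]; exact Subgroup.mem_top _
  have hz' : ψ (back z) ∈ K := hz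
  rwa [hback] at hz'

end CfsgLib.MaxSub.SLThree.Orth3
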